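import Groth.Agent.LocImm58.Basic

set_option autoImplicit false
universe u

open CategoryTheory Limits AlgebraicGeometry

namespace Groth.Agent.LocImm58

variable {X Y Z : Scheme.{u}}

lemma isLocHom_of_isIso {A B : CommRingCat.{u}} (f : A ⟶ B) [IsIso f] : LocImm.IsLocHom f.hom :=
  isLocHom_of_bijective (ConcreteCategory.bijective_of_isIso f)

lemma isLocHom_app_of_isLocHom_appLE (f : X ⟶ Y) {V : Y.Opens} {W : X.Opens} (e : W ≤ f ⁻¹ᵁ V)
    (heq : W = f ⁻¹ᵁ V) (h : LocImm.IsLocHom (f.appLE V W e).hom) :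
    LocImm.IsLocHom (f.app V).hom := by
  subst heq; rwa [Scheme.Hom.app_eq_appLE]

/-- Shrinking a chart to a standard open. -/
lemma chart_basicOpen (f : X ⟶ Y) {V : Y.Opens} (hV : IsAffineOpen V)
    (hV' : IsAffineOpen (f ⁻¹ᵁ V)) (hl : LocImm.IsLocHom (f.app V).hom) (a : Γ(Y, V)) :
    IsAffineOpen (f ⁻¹ᵁ Y.basicOpen a) ∧ LocImm.IsLocHom (f.app (Y.basicOpen a)).hom := by
  refine ⟨by rw [Scheme.preimage_basicOpen]; exact hV'.basicOpen _, ?_⟩
  have h1 := isLocHom_appLE_basicOpen f hV hV' le_rfl (by rwa [← Scheme.Hom.app_eq_appLE]) a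
  refine isLocHom_app_of_isLocHom_appLE f _ ?_ h1
  rw [Scheme.preimage_basicOpen, ← Scheme.Hom.app_eq_appLE]

lemma isLocImmersion_of_isOpenImmersion (f : X ⟶ Y) [IsOpenImmersion f] :
    LocImm.IsLocImmersion f := by
  refine isLocImmersion_of_charts f fun x => ?_
  obtain ⟨_, ⟨W, hW, rfl⟩, hxW, -⟩ :=
    X.isBasis_affineOpens.exists_subset_of_mem_open (Set.mem_univ x) isOpen_univ
  refine ⟨f ''ᵁ W, ⟨x, hxW, rfl⟩, hW.image_of_isOpenImmersion f,
    by rw [f.preimage_image_eq]; exact hW, ?_⟩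
  apply isLocHom_of_bijective
  have : IsIso (f.app (f ''ᵁ W)) := inferInstance
  exact ConcreteCategory.bijective_of_isIso (f.app (f ''ᵁ W))

lemma isLocImmersion_comp [TopologicalSpace.NoetherianSpace X] [TopologicalSpace.NoetherianSpace Y]
    (f : X ⟶ Y) (g : Y ⟶ Z) (hf : LocImm.IsLocImmersion f) (hg : LocImm.IsLocImmersion g) :
    LocImm.IsLocImmersion (f ≫ g) := by
  refine isLocImmersion_of_charts _ fun x => ?_
  obtain ⟨V, hxV, -, hV, hV', hl⟩ := exists_affine_chart g hg (f x) (O := ⊤) trivial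
  obtain ⟨W, hxW, hWle, hW, hW', hl'⟩ := exists_affine_chart f hf x (O := g ⁻¹ᵁ V) hxV
  obtain ⟨O, hxO, hO⟩ := exists_open_preimage_subset g hg (W := W) hxW
  obtain ⟨a, haO, hxa⟩ := hV.exists_basicOpen_le (⟨g (f x), hxO⟩ : O) hxV
  obtain ⟨-, hla⟩ := chart_basicOpen g hV hV' hl a
  have heq : g ⁻¹ᵁ Z.basicOpen a = Y.basicOpen (g.appLE V W hWle a) := by
    rw [Scheme.basicOpen_appLE]
    exact le_antisymm (le_inf ((g.preimage_mono haO).trans hO) le_rfl) inf_le_right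
  obtain ⟨h2, hlb⟩ := chart_basicOpen f hW hW' hl' (g.appLE V W hWle a)
  rw [← heq] at h2 hlb
  refine ⟨Z.basicOpen a, hxa, hV.basicOpen a, h2, ?_⟩
  rw [Scheme.Hom.comp_app]
  exact isLocHom_comp hla hlb

lemma isLocImmersion_of_comp_openImmersion [TopologicalSpace.NoetherianSpace X] (k : X ⟶ Y)
    (j : Y ⟶ Z) [IsOpenImmersion j] (h : LocImm.IsLocImmersion (k ≫ j)) :
    LocImm.IsLocImmersion k := by
  refine isLocImmersion_of_charts _ fun x => ?_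
  obtain ⟨V, hxV, hVle, hV, hV', hl⟩ :=
    exists_affine_chart (k ≫ j) h x (O := j.opensRange) ⟨k x, rfl⟩
  refine ⟨j ⁻¹ᵁ V, hxV, hV.preimage_of_isOpenImmersion j hVle, hV', ?_⟩
  rw [Scheme.Hom.comp_app] at hl
  refine isLocHom_of_comp ?_ hl
  exact @isLocHom_of_isIso _ _ (j.app V) (j.isIso_app V hVle)

lemma isLocImmersion_SpecMap {R S : CommRingCat.{u}} (φ : R ⟶ S) (h : LocImm.IsLocHom φ.hom) :
    LocImm.IsLocImmersion (Spec.map φ) := by
  refine isLocImmersion_of_charts _ fun x =>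
    ⟨⊤, trivial, isAffineOpen_top _, isAffineOpen_top _, ?_⟩
  have e : (Spec.map φ).appTop = (Scheme.ΓSpecIso R).hom ≫ φ ≫ (Scheme.ΓSpecIso S).inv := by
    rw [← Scheme.ΓSpecIso_naturality_assoc, Iso.hom_inv_id, Category.comp_id]
  show LocImm.IsLocHom (Spec.map φ).appTop.hom
  rw [e]
  simp only [CommRingCat.hom_comp]
  exact isLocHom_comp (isLocHom_of_isIso (Scheme.ΓSpecIso R).hom)
    (isLocHom_comp h (isLocHom_of_isIso (Scheme.ΓSpecIso S).inv))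

/-- Restricting a localizing morphism to an open of the source. -/
lemma isLocalizing_comp_ι (f : X ⟶ Y) (U : X.Opens)
    (h : ∀ x ∈ U, ∃ (V : Y.affineOpens) (W : X.affineOpens) (_ : x ∈ W.1) (e : W.1 ≤ f ⁻¹ᵁ V.1),
      LocImm.IsLocHom (f.appLE V W e).hom) :
    LocImm.IsLocalizing (U.ι ≫ f) := by
  rintro ⟨x, hxU⟩
  obtain ⟨V, W, hxW, e, hl⟩ := h x hxU
  obtain ⟨g, hxg, hgU⟩ := exists_basicOpen_appLE f W.2 e hl hxW hxU
  have hl' := isLocHom_appLE_basicOpen f V.2 W.2 e hl g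
  let W' := X.basicOpen (f.appLE V.1 W.1 e g)
  have hW'U : W' ≤ U := hgU
  have e1 : U.ι ⁻¹ᵁ W' ≤ (U.ι ≫ f) ⁻¹ᵁ Y.basicOpen g :=
    U.ι.preimage_mono (basicOpen_appLE_le f e g)
  refine ⟨⟨_, V.2.basicOpen g⟩,
    ⟨U.ι ⁻¹ᵁ W', (W.2.basicOpen _).preimage_of_isOpenImmersion U.ι (by simpa using hW'U)⟩,
    hxg, e1, ?_⟩
  show LocImm.IsLocHom ((U.ι ≫ f).appLE (Y.basicOpen g) (U.ι ⁻¹ᵁ W') e1).hom
  rw [← Scheme.Hom.appLE_comp_appLE U.ι f (Y.basicOpen g) W' (U.ι ⁻¹ᵁ W')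
    (basicOpen_appLE_le f e g) le_rfl, CommRingCat.hom_comp]
  refine isLocHom_comp hl' ?_
  rw [← Scheme.Hom.app_eq_appLE]
  exact @isLocHom_of_isIso _ _ (U.ι.app W') (U.ι.isIso_app W' (by simpa using hW'U))

lemma exists_chart_of_isLocalizing (f : X ⟶ Y) (U : X.Opens) (hf : LocImm.IsLocalizing f) :
    LocImm.IsLocalizing (U.ι ≫ f) :=
  isLocalizing_comp_ι f U fun x _ => hf x

end Groth.Agent.LocImm58
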