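import Groth.Agent.LocImm58.Ring
import Mathlib.AlgebraicGeometry.Morphisms.Preimmersion
import Mathlib.AlgebraicGeometry.Morphisms.Flat
import Mathlib.AlgebraicGeometry.Morphisms.UniversallyInjective
import Mathlib.AlgebraicGeometry.Noetherian
import Mathlib.AlgebraicGeometry.Stalk

set_option autoImplicit false
universe u

open CategoryTheory Limits AlgebraicGeometry

namespace Groth.Agent.LocImm58

variable {X Y Z : Scheme.{u}}

section chart

variable (f : X ⟶ Y) {U : Y.Opens} (hU : IsAffineOpen U) {V : X.Opens} (hV : IsAffineOpen V)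
  (e : V ≤ f ⁻¹ᵁ U)

lemma basicOpen_appLE_le (g : Γ(Y, U)) :
    X.basicOpen (f.appLE U V e g) ≤ f ⁻¹ᵁ Y.basicOpen g := by
  rw [Scheme.basicOpen_appLE]; exact inf_le_right

include hU hV in
lemma isLocHom_appLE_basicOpen (h : LocImm.IsLocHom (f.appLE U V e).hom) (g : Γ(Y, U)) :
    LocImm.IsLocHom (f.appLE (Y.basicOpen g) (X.basicOpen (f.appLE U V e g))
      (basicOpen_appLE_le f e g)).hom := by
  have := hU.isLocalization_basicOpen g
  have := hV.isLocalization_basicOpen (f.appLE U V e g)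
  refine isLocHom_of_comp
    (φ := algebraMap Γ(Y, U) Γ(Y, Y.basicOpen g))
    (isLocHom_algebraMap (Submonoid.powers g)) ?_
  have e' : (f.appLE (Y.basicOpen g) (X.basicOpen (f.appLE U V e g))
      (basicOpen_appLE_le f e g)).hom.comp (algebraMap Γ(Y, U) Γ(Y, Y.basicOpen g)) =
      (algebraMap Γ(X, V) Γ(X, X.basicOpen (f.appLE U V e g))).comp (f.appLE U V e).hom := by
    show (Y.presheaf.map _ ≫ f.appLE (Y.basicOpen g) _ _).hom = (f.appLE U V e ≫ X.presheaf.map _).hom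
    rw [Scheme.Hom.map_appLE, Scheme.Hom.appLE_map]
  rw [e']
  exact isLocHom_comp h (isLocHom_algebraMap (Submonoid.powers (f.appLE U V e g)))

include hV in
lemma exists_basicOpen_appLE (h : LocImm.IsLocHom (f.appLE U V e).hom) {W : X.Opens} {x : X}
    (hx : x ∈ V) (hxW : x ∈ W) :
    ∃ g : Γ(Y, U), x ∈ X.basicOpen (f.appLE U V e g) ∧ X.basicOpen (f.appLE U V e g) ≤ W := by
  obtain ⟨b, hbW, hxb⟩ := hV.exists_basicOpen_le ⟨x, hxW⟩ hx
  obtain ⟨a, s, hs, e'⟩ := (isLocHom_iff.mp h).1 b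
  have : X.basicOpen (f.appLE U V e a) = X.basicOpen b := by
    rw [← e', Scheme.basicOpen_mul, Scheme.basicOpen_of_isUnit X hs, inf_eq_left]
    exact X.basicOpen_le b
  exact ⟨a, this.ge hxb, this.le.trans hbW⟩

include hU hV in
lemma isIso_stalkMap_of_chart (h : LocImm.IsLocHom (f.appLE U V e).hom) {x : X} (hx : x ∈ V) :
    IsIso (f.stalkMap x) := by
  let := TopCat.Presheaf.algebra_section_stalk Y.presheaf ⟨f x, e hx⟩
  have := hU.isLocalization_stalk ⟨f x, e hx⟩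
  let := TopCat.Presheaf.algebra_section_stalk X.presheaf ⟨x, hx⟩
  have := hV.isLocalization_stalk ⟨x, hx⟩
  obtain ⟨hfrac, hker⟩ := isLocHom_iff.mp h
  let gY := (Y.presheaf.germ U (f x) (e hx)).hom
  let gX := (X.presheaf.germ V x hx).hom
  have hg : ∀ z, f.stalkMap x (gY z) = gX (f.appLE U V e z) := fun z => by
    refine (Scheme.Hom.germ_stalkMap_apply f U x (e hx) z).trans ?_
    exact (TopCat.Presheaf.germ_res_apply X.presheaf (homOfLE e) x hx _).symm
  let ψ := (f.stalkMap x).hom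
  have inv_mem : ∀ z, IsUnit (ψ z) → ∀ w, w * ψ z ∈ ψ.range → w ∈ ψ.range := by
    intro z hz w ⟨r, hr⟩
    obtain ⟨u, hu⟩ := (isUnit_of_map_unit ψ z hz).exists_right_inv
    refine ⟨r * u, ?_⟩
    rw [map_mul, hr, mul_assoc, ← map_mul, hu, map_one, mul_one]
  have hB : ∀ b, gX b ∈ ψ.range := by
    intro b
    obtain ⟨a, s, hs, e'⟩ := hfrac b
    refine inv_mem (gY s) ?_ _ ⟨gY a, ?_⟩
    · have : IsUnit (gX (f.appLE U V e s)) := hs.map gX
      rwa [← hg] at this
    · show f.stalkMap x (gY a) = gX b * f.stalkMap x (gY s)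
      rw [hg, hg, ← map_mul]
      exact congrArg gX e'.symm
  refine (ConcreteCategory.isIso_iff_bijective _).mpr ⟨?_, ?_⟩
  · refine (injective_iff_map_eq_zero ψ).mpr fun z hz => ?_
    obtain ⟨⟨a, s⟩, hzs⟩ :=
      IsLocalization.surj (hU.primeIdealOf ⟨f x, e hx⟩).asIdeal.primeCompl z
    have hzs' : z * gY s.1 = gY a := hzs
    have ha : gX (f.appLE U V e a) = 0 := by
      rw [← hg, ← hzs']; exact (map_mul ψ _ _).trans (by rw [hz, zero_mul])
    obtain ⟨⟨b, hb⟩, hb0⟩ := (IsLocalization.map_eq_zero_iff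
      (hV.primeIdealOf ⟨x, hx⟩).asIdeal.primeCompl (X.presheaf.stalk x) _).mp ha
    obtain ⟨a', s', hs', e'⟩ := hfrac b
    obtain ⟨t, ht, e''⟩ := hker (a' * a) (by
      rw [map_mul, ← e']
      have h0 : b * (f.appLE U V e).hom a = 0 := hb0
      linear_combination (f.appLE U V e).hom s' * h0)
    have hua : IsUnit (gY (t * a')) := by
      apply isUnit_of_map_unit ψ
      show IsUnit (f.stalkMap x (gY (t * a')))
      rw [hg]
      have hub : IsUnit (gX b) := IsLocalization.map_units (X.presheaf.stalk x) ⟨b, hb⟩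
      have h1 : IsUnit (gX ((f.appLE U V e).hom t * (b * (f.appLE U V e).hom s'))) := by
        rw [map_mul gX, map_mul gX]; exact (ht.map gX).mul (hub.mul (hs'.map gX))
      have h2 : (f.appLE U V e).hom t * (b * (f.appLE U V e).hom s') = f.appLE U V e (t * a') := by
        rw [e']; exact (map_mul _ _ _).symm
      rwa [h2] at h1
    have hga : gY a = 0 := by
      refine hua.mul_right_eq_zero.mp ?_
      rw [← map_mul, mul_assoc, e'', map_zero]
    rw [hga] at hzs'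
    exact (IsLocalization.map_units (Y.presheaf.stalk (f x)) s).mul_left_eq_zero.mp hzs'
  · intro w
    obtain ⟨⟨b, s⟩, hws⟩ := IsLocalization.surj (hV.primeIdealOf ⟨x, hx⟩).asIdeal.primeCompl w
    obtain ⟨r, hr⟩ := hB s.1
    exact inv_mem r (hr ▸ IsLocalization.map_units (X.presheaf.stalk x) s) w
      (hr ▸ ((congrArg (· ∈ ψ.range) hws).mpr (hB b)))

end chart

lemma isIso_stalkMap (f : X ⟶ Y) (hf : LocImm.IsLocalizing f) (x : X) : IsIso (f.stalkMap x) := by
  obtain ⟨U, V, hx, e, h⟩ := hf x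
  exact isIso_stalkMap_of_chart f U.2 V.2 e h hx

lemma exists_unique_lift_generization (f : X ⟶ Y) (x : X) [IsIso (f.stalkMap x)] {y : Y}
    (hy : y ⤳ f x) : ∃! x' : X, x' ⤳ x ∧ f x' = y := by
  have hy' : y ∈ Set.range (Y.fromSpecStalk (f x)) := by rw [Scheme.range_fromSpecStalk]; exact hy
  obtain ⟨p, rfl⟩ := hy'
  have key : ∀ q, f (X.fromSpecStalk x q) = Y.fromSpecStalk (f x) (Spec.map (f.stalkMap x) q) :=
    fun q => (congr($(Scheme.SpecMap_stalkMap_fromSpecStalk f (x := x)) q)).symm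
  obtain ⟨q, rfl⟩ := (Spec.map (f.stalkMap x)).homeomorph.surjective p
  refine ⟨X.fromSpecStalk x q, ⟨?_, key q⟩, ?_⟩
  · exact (Scheme.range_fromSpecStalk (x := x)).le (Set.mem_range_self q)
  · rintro x' ⟨hx', e⟩
    obtain ⟨q', rfl⟩ : x' ∈ Set.range (X.fromSpecStalk x) := by
      rw [Scheme.range_fromSpecStalk]; exact hx'
    rw [key] at e
    rw [(Spec.map (f.stalkMap x)).homeomorph.injective
      ((Y.fromSpecStalk (f x)).isEmbedding.injective e)]

lemma stableUnderGeneralization_range (f : X ⟶ Y) (hf : LocImm.IsLocalizing f) :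
    StableUnderGeneralization (Set.range f) := by
  rintro _ y hy ⟨x, rfl⟩
  have := isIso_stalkMap f hf x
  obtain ⟨x', ⟨-, h⟩, -⟩ := exists_unique_lift_generization f x hy
  exact ⟨x', h⟩

/-- Opens are induced from the target for an injective localizing morphism out of a Noetherian
space. -/
lemma exists_open_preimage_subset [TopologicalSpace.NoetherianSpace X] (f : X ⟶ Y)
    (hf : LocImm.IsLocImmersion f) {W : X.Opens} {x : X} (hx : x ∈ W) :
    ∃ O : Y.Opens, f x ∈ O ∧ f ⁻¹ᵁ O ≤ W := by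
  obtain ⟨S, hSfin, hScl, hSirr, hSeq⟩ :=
    TopologicalSpace.NoetherianSpace.exists_finite_set_isClosed_irreducible W.2.isClosed_compl
  have key : ∀ Z ∈ S, f x ∉ closure (f '' Z) := by
    intro Z hZ hmem
    have hg : IsGenericPoint (hSirr Z hZ).genericPoint Z :=
      (hSirr Z hZ).isGenericPoint_genericPoint (hScl Z hZ)
    have h2 : IsGenericPoint (f (hSirr Z hZ).genericPoint) (closure (f '' Z)) := hg.image f.continuous
    have := isIso_stalkMap f hf.1 x
    obtain ⟨x', ⟨hx', e⟩, -⟩ :=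
      exists_unique_lift_generization f x (h2.specializes hmem)
    rw [hf.2 e] at hx'
    exact hSeq.ge (Set.mem_sUnion.mpr ⟨Z, hZ, hg.specializes_iff_mem.mp hx'⟩) hx
  refine ⟨⟨(⋃ Z ∈ S, closure (f '' Z))ᶜ,
    (hSfin.isClosed_biUnion fun Z _ => isClosed_closure).isOpen_compl⟩, ?_, ?_⟩
  · simp only [← SetLike.mem_coe, TopologicalSpace.Opens.coe_mk, Set.mem_compl_iff, Set.mem_iUnion₂]
    rintro ⟨Z, hZ, h⟩; exact key Z hZ h
  · intro y hy
    by_contra hyW
    obtain ⟨Z, hZ, hyZ⟩ := hSeq.le hyW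
    exact hy (Set.mem_iUnion₂.mpr ⟨Z, hZ, subset_closure ⟨y, hyZ, rfl⟩⟩)

lemma isEmbedding [TopologicalSpace.NoetherianSpace X] (f : X ⟶ Y)
    (hf : LocImm.IsLocImmersion f) : Topology.IsEmbedding f := by
  refine ⟨⟨TopologicalSpace.ext_iff.mpr fun s => ⟨fun hs => ?_, ?_⟩⟩, hf.2⟩
  · choose O hO hOs using fun x : s => exists_open_preimage_subset f hf (W := ⟨s, hs⟩) x.2
    refine isOpen_induced_iff.mpr ⟨⋃ x : s, (O x : Set Y), isOpen_iUnion fun x => (O x).2, ?_⟩
    ext z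
    refine ⟨fun hz => ?_, fun hz => Set.mem_iUnion.mpr ⟨⟨z, hz⟩, hO ⟨z, hz⟩⟩⟩
    obtain ⟨w, hw⟩ := Set.mem_iUnion.mp hz
    exact hOs w hw
  · exact fun hs => by
      obtain ⟨t, ht, rfl⟩ := isOpen_induced_iff.mp hs
      exact ht.preimage f.continuous

lemma isPreimmersion [TopologicalSpace.NoetherianSpace X] (f : X ⟶ Y)
    (hf : LocImm.IsLocImmersion f) : IsPreimmersion f where
  stalkMap_surjective x :=
    have := isIso_stalkMap f hf.1 x
    (ConcreteCategory.bijective_of_isIso (f.stalkMap x)).2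
  isEmbedding := isEmbedding f hf

/-- Small affine charts with affine preimage. -/
lemma exists_affine_chart [TopologicalSpace.NoetherianSpace X] (f : X ⟶ Y)
    (hf : LocImm.IsLocImmersion f) (x : X) {O : Y.Opens} (hO : f x ∈ O) :
    ∃ V : Y.Opens, f x ∈ V ∧ V ≤ O ∧ IsAffineOpen V ∧ IsAffineOpen (f ⁻¹ᵁ V) ∧
      LocImm.IsLocHom (f.app V).hom := by
  obtain ⟨U, V, hx, e, h⟩ := hf.1 x
  obtain ⟨O', hxO', hO'⟩ := exists_open_preimage_subset f hf (W := V.1) hx
  obtain ⟨g, hgle, hxg⟩ := U.2.exists_basicOpen_le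
    (⟨f x, (show f x ∈ O ⊓ O' from ⟨hO, hxO'⟩)⟩ : (O ⊓ O' : Y.Opens)) (e hx)
  have heq : f ⁻¹ᵁ Y.basicOpen g = X.basicOpen (f.appLE U.1 V.1 e g) := by
    refine le_antisymm ?_ (basicOpen_appLE_le f e g)
    rw [Scheme.basicOpen_appLE]
    exact le_inf ((f.preimage_mono (hgle.trans inf_le_right)).trans hO') le_rfl
  refine ⟨Y.basicOpen g, hxg, hgle.trans inf_le_left, U.2.basicOpen g,
    heq ▸ V.2.basicOpen _, ?_⟩
  have := isLocHom_appLE_basicOpen f U.2 V.2 e h g
  rw [Scheme.Hom.app_eq_appLE]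
  have gen : ∀ (W : X.Opens) (hW : W ≤ f ⁻¹ᵁ Y.basicOpen g), W = X.basicOpen (f.appLE U.1 V.1 e g) →
      LocImm.IsLocHom (f.appLE (Y.basicOpen g) W hW).hom := by
    rintro W hW rfl; exact this
  exact gen _ _ heq

lemma isLocalizing_of_charts (f : X ⟶ Y)
    (h : ∀ x : X, ∃ V : Y.Opens, f x ∈ V ∧ IsAffineOpen V ∧ IsAffineOpen (f ⁻¹ᵁ V) ∧
      LocImm.IsLocHom (f.app V).hom) : LocImm.IsLocalizing f := fun x => by
  obtain ⟨V, hx, hV, hV', hl⟩ := h x
  refine ⟨⟨V, hV⟩, ⟨f ⁻¹ᵁ V, hV'⟩, hx, le_rfl, ?_⟩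
  rw [← Scheme.Hom.app_eq_appLE]; exact hl

lemma isLocImmersion_of_charts (f : X ⟶ Y)
    (h : ∀ x : X, ∃ V : Y.Opens, f x ∈ V ∧ IsAffineOpen V ∧ IsAffineOpen (f ⁻¹ᵁ V) ∧
      LocImm.IsLocHom (f.app V).hom) : LocImm.IsLocImmersion f := by
  refine ⟨isLocalizing_of_charts f h, fun a b hab => ?_⟩
  obtain ⟨V, hx, hV, hV', hl⟩ := h a
  let φ := (f.app V).hom
  let := φ.toAlgebra
  obtain ⟨S, hS⟩ := hl
  have hinj : Function.Injective (Spec.map (f.app V)) :=
    PrimeSpectrum.localization_comap_injective Γ(X, f ⁻¹ᵁ V) S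
  have hb : b ∈ f ⁻¹ᵁ V := show f b ∈ V from (show f a = f b from hab) ▸ hx
  have := @hinj (hV'.primeIdealOf ⟨a, hx⟩) (hV'.primeIdealOf ⟨b, hb⟩) ?_
  · have h1 := congrArg hV'.fromSpec this
    rwa [hV'.fromSpec_primeIdealOf, hV'.fromSpec_primeIdealOf] at h1
  · have e1 := IsAffineOpen.comap_primeIdealOf_appLE (f := f) V hV _ hV' le_rfl (x := a) hx
    have e2 := IsAffineOpen.comap_primeIdealOf_appLE (f := f) V hV _ hV' le_rfl (x := b) hb
    simp only [← Scheme.Hom.app_eq_appLE] at e1 e2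
    refine (e1.trans ?_).trans e2.symm
    congr 1
    exact Subtype.ext hab

end Groth.Agent.LocImm58
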