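import Groth.Agent.LocImm58.Locus
import Groth.Agent.S0386
import Groth.Agent.E4O.DvrCrit
import Mathlib.AlgebraicGeometry.Morphisms.Flat

set_option autoImplicit false
universe u

open CategoryTheory Limits AlgebraicGeometry

namespace Groth.Agent.LocImm58

variable {X Y : Scheme.{u}}

lemma flat_of_isLocImmersion (f : X ⟶ Y) (hf : LocImm.IsLocImmersion f) : Flat f :=
  Flat.of_stalkMap f fun x => by
    have := isIso_stalkMap f hf.1 x
    exact RingHom.Flat.of_bijective (ConcreteCategory.bijective_of_isIso _)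

lemma flat_fromSpecStalk_comp_iff [IsNoetherian X] [IsNoetherian Y] (f : X ⟶ Y) (x : X) :
    Flat (X.fromSpecStalk x ≫ f) ↔ (f.stalkMap x).hom.Flat := by
  have h1 := flat_of_isLocImmersion _ (isLocImmersion_fromSpecStalk (X := Y) (f x))
  rw [← Scheme.SpecMap_stalkMap_fromSpecStalk, ← HasRingHomProperty.Spec_iff (P := @Flat)]
  refine ⟨fun h => ?_, fun h => inferInstance⟩
  let g := Spec.map (f.stalkMap x)
  let m := Y.fromSpecStalk (f x)
  have := isPreimmersion _ (isLocImmersion_fromSpecStalk (X := Y) (f x))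
  have hsnd : pullback.snd (g ≫ m) m = pullback.fst (g ≫ m) m ≫ g := by
    rw [← cancel_mono m, ← pullback.condition, Category.assoc]
  have hf : Flat (pullback.snd (g ≫ m) m) := MorphismProperty.pullback_snd _ _ h
  rw [hsnd] at hf
  exact (MorphismProperty.cancel_left_of_respectsIso @Flat _ g).1 hf

theorem flat_locus_open_and_factors [IsNoetherian X] [IsNoetherian Y] (f : X ⟶ Y) [IsSeparated f]
    [EssFT.EssFiniteType f] :
    ((∀ x : X, Flat (X.fromSpecStalk x ≫ f)) → Flat f) ∧ IsOpen {x : X | Flat (X.fromSpecStalk x ≫ f)} ∧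
      (Flat f → ∃ (Z : Scheme.{u}) (i : X ⟶ Z) (h : Z ⟶ Y), IsNoetherian Z ∧
        LocImm.IsLocImmersion i ∧ IsSeparated h ∧ LocallyOfFiniteType h ∧ QuasiCompact h ∧
        Flat h ∧ i ≫ h = f) := by
  refine locus_open_and_factors (P := @Flat) ?_ ?_ ?_ f
  · intro W X Y _ _ _ i f _ _ hi hf
    have := flat_of_isLocImmersion i hi
    infer_instance
  · intro X Y _ _ f _ _ h
    exact Flat.of_stalkMap f fun x => (flat_fromSpecStalk_comp_iff f x).1 (h x)
  · intro X Y _ _ f _ _
    have := E4O.locallyOfFinitePresentation_of_isLocallyNoetherian f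
    simp only [flat_fromSpecStalk_comp_iff]
    exact S0386.result f

end Groth.Agent.LocImm58
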