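import Groth.Agent.LocImm58.Extend
import Groth.Agent.LocImm58.Flat
import Groth.Agent.FlatCrit65.Blow.CommonBlowUp
import Groth.Agent.FlatCrit65.Blow.Composite
import Groth.Agent.H98Strict.Admissible

/-!
Blow-ups of Noetherian schemes away from an open immersion.
-/

set_option autoImplicit false
set_option backward.isDefEq.respectTransparency.types false
universe u

open CategoryTheory Limits AlgebraicGeometry TopologicalSpace

namespace Groth.Agent.LocImm58

variable {T X X' Y Z : Scheme.{u}} {I : X.IdealSheafData} {b : X' ⟶ X}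

lemma isFiniteTypeIdeal_of_isLocallyNoetherian [IsLocallyNoetherian X] (I : X.IdealSheafData) :
    BlowUp.IsFiniteTypeIdeal I := fun U => by
  have : IsNoetherianRing Γ(X, U.1) := IsLocallyNoetherian.component_noetherian U
  exact IsNoetherian.noetherian _

lemma isProper_blowUp [IsLocallyNoetherian X] (hb : BlowUp.IsBlowUp b I) : IsProper b :=
  RegImm10.BlowModel.isProper_of_isBlowUp (isFiniteTypeIdeal_of_isLocallyNoetherian I) hb

lemma isNoetherian_blowUp [IsNoetherian X] (hb : BlowUp.IsBlowUp b I) : IsNoetherian X' :=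
  haveI := isProper_blowUp hb
  isNoetherian_of_finiteType b

lemma exists_isBlowUp_support_compl [IsNoetherian X] (U : X.Opens) :
    ∃ (K : X.IdealSheafData) (X' : Scheme.{u}) (b : X' ⟶ X), BlowUp.IsBlowUp b K ∧
      (K.support : Set X) = (U : Set X)ᶜ := by
  obtain ⟨K, -, hK⟩ := H98Strict.exists_ideal_support U (isCompact_of_isNoetherian U)
  obtain ⟨X', b, hb⟩ := FBlow13.exists_isBlowUp_scheme X K
  exact ⟨K, X', b, hb, hK⟩

/-- A morphism missing the centre lifts to the blow-up. -/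
lemma exists_lift_blowUp (hb : BlowUp.IsBlowUp b I) (j : T ⟶ X)
    (h : Disjoint (I.support : Set X) (Set.range j)) : ∃ l : T ⟶ X', l ≫ b = j :=
  (hb.2 T j (Div89.isEffCartier_of_support_empty fun t => Div89.notMem_support_comap j I t
    (Set.disjoint_right.1 h ⟨t, rfl⟩))).exists

lemma isOpenImmersion_off_center (hb : BlowUp.IsBlowUp b I) :
    IsOpenImmersion ((b ⁻¹ᵁ I.support.compl).ι ≫ b) := by
  have := Div89.isIso_off_center hb
  rw [← morphismRestrict_ι]
  infer_instance

lemma eq_of_off_center (hb : BlowUp.IsBlowUp b I) {y y' : X'} (hy : b y ∉ I.support) (h : b y = b y') :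
    y = y' := by
  have := isOpenImmersion_off_center hb
  have hy' : b y' ∉ I.support := h ▸ hy
  exact congrArg Subtype.val (((b ⁻¹ᵁ I.support.compl).ι ≫ b).isOpenEmbedding.injective
    (a₁ := ⟨y, hy⟩) (a₂ := ⟨y', hy'⟩) h)

lemma range_lift_blowUp (hb : BlowUp.IsBlowUp b I) (j : T ⟶ X)
    (h : Disjoint (I.support : Set X) (Set.range j)) (l : T ⟶ X') (hl : l ≫ b = j) :
    Set.range l = (fun y => b y) ⁻¹' Set.range j := by
  subst hl
  ext y
  refine ⟨?_, fun ⟨t, ht⟩ => ⟨t, eq_of_off_center hb (Set.disjoint_right.1 h ⟨t, rfl⟩) ht⟩⟩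
  rintro ⟨t, rfl⟩
  exact ⟨t, rfl⟩

lemma isOpenImmersion_lift_blowUp (hb : BlowUp.IsBlowUp b I) (j : T ⟶ X) [IsOpenImmersion j]
    (h : Disjoint (I.support : Set X) (Set.range j)) (l : T ⟶ X') (hl : l ≫ b = j) :
    IsOpenImmersion l := by
  let O := b ⁻¹ᵁ I.support.compl
  have := isOpenImmersion_off_center hb
  let l' : T ⟶ O := IsOpenImmersion.lift O.ι l (by
    rw [Scheme.Opens.range_ι]
    rintro _ ⟨t, rfl⟩
    exact Set.disjoint_right.1 h ⟨t, show j t = b (l t) by rw [← hl]; rfl⟩)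
  have hl' : l' ≫ O.ι = l := IsOpenImmersion.lift_fac _ _ _
  have : IsOpenImmersion (l' ≫ O.ι ≫ b) := by rw [reassoc_of% hl', hl]; infer_instance
  have : IsOpenImmersion l' := IsOpenImmersion.of_comp l' (O.ι ≫ b)
  rw [← hl']
  infer_instance

lemma dense_preimage_compl (hb : BlowUp.IsBlowUp b I) :
    Dense ((b ⁻¹ᵁ I.support.compl : X'.Opens) : Set X') := by
  have he : (I.comap b).support.compl = b ⁻¹ᵁ I.support.compl := by
    ext y
    show y ∉ (I.comap b).support ↔ b y ∉ I.support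
    rw [Scheme.IdealSheafData.support_comap]
    rfl
  obtain ⟨_, _⟩ := H98Strict.dominant_compl hb.1
  have h := (inferInstance : IsDominant (Scheme.Opens.ι (X := X') (I.comap b).support.compl)).1
  rw [DenseRange, Scheme.Opens.range_ι, he] at h
  exact h

lemma dense_preimage_blowUp (hb : BlowUp.IsBlowUp b I) {s : Set X}
    (hs : (I.support.compl : Set X) ⊆ closure s) : Dense ((fun y => b y) ⁻¹' s) := by
  let O := b ⁻¹ᵁ I.support.compl
  have := isOpenImmersion_off_center hb
  refine dense_iff_inter_open.2 fun t ht hne => ?_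
  obtain ⟨y, hyt, hyO⟩ := dense_iff_inter_open.1 (dense_preimage_compl hb) t ht hne
  have hopen : IsOpen ((fun z => (O.ι ≫ b) z) '' (O.ι ⁻¹' t)) :=
    (O.ι ≫ b).isOpenEmbedding.isOpenMap _ (ht.preimage O.ι.continuous)
  obtain ⟨x, ⟨z, hz, rfl⟩, hxs⟩ := mem_closure_iff.1 (hs hyO) _ hopen ⟨⟨y, hyO⟩, hyt, rfl⟩
  exact ⟨O.ι z, hz, hxs⟩

/-- A proper morphism which restricts to an open immersion on some open subscheme becomes an isomorphism
after blowing up source and target away from that open subscheme. -/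
theorem exists_common_blowUp [IsNoetherian Y] [IsNoetherian Z] (g : Y ⟶ Z) [IsProper g]
    (i : T ⟶ Y) [IsOpenImmersion i] [IsOpenImmersion (i ≫ g)] :
    ∃ (I : Y.IdealSheafData) (J : Z.IdealSheafData) (Y' : Scheme.{u}) (c : Y' ⟶ Y),
      BlowUp.IsBlowUp c I ∧ Disjoint (I.support : Set Y) (Set.range i) ∧
      BlowUp.IsBlowUp (c ≫ g) J ∧ Disjoint (J.support : Set Z) (Set.range (i ≫ g)) := by
  let U := (i ≫ g).opensRange
  let V := i.opensRange
  obtain ⟨K, Y₁, b, hb, hK⟩ := exists_isBlowUp_support_compl V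
  have := isProper_blowUp hb
  have hKi : Disjoint (K.support : Set Y) (Set.range i) := by rw [hK]; exact disjoint_compl_left
  obtain ⟨l, hl⟩ := exists_lift_blowUp hb i hKi
  have := isOpenImmersion_lift_blowUp hb i hKi l hl
  -- `V` is closed in `g ⁻¹ U`
  let G := g ⁻¹ᵁ U
  let s : T ⟶ G := IsOpenImmersion.lift G.ι i (by
    rw [Scheme.Opens.range_ι]
    rintro _ ⟨t, rfl⟩
    exact ⟨t, rfl⟩)
  have hs : s ≫ G.ι = i := IsOpenImmersion.lift_fac _ _ _
  have hsU : s ≫ (g ∣_ U) = (i ≫ g).isoOpensRange.hom := by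
    rw [← cancel_mono U.ι, Category.assoc, morphismRestrict_ι, ← Category.assoc, hs,
      Scheme.Hom.isoOpensRange_hom_ι]
  have : IsClosedImmersion (s ≫ (g ∣_ U)) := by rw [hsU]; infer_instance
  have : IsClosedImmersion s := IsClosedImmersion.of_comp s (g ∣_ U)
  let f := b ≫ g
  have hpre : f ⁻¹ᵁ U = l.opensRange := by
    refine le_antisymm (fun y hy => ?_) ?_
    · show y ∈ Set.range l
      rw [range_lift_blowUp hb i hKi l hl]
      by_contra hyV
      have hopen : IsOpen ((fun y => (f y : Z)) ⁻¹' (U : Set Z) ∩ (fun y => b y) ⁻¹' (Set.range i)ᶜ) := by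
        have h : ((fun y => (f y : Z)) ⁻¹' (U : Set Z) ∩ (fun y => b y) ⁻¹' (Set.range i)ᶜ) =
            (fun y => b y) ⁻¹' ((fun z => G.ι z) '' (Set.range s)ᶜ) := by
          ext z
          refine ⟨fun ⟨h1, h2⟩ => ⟨⟨b z, h1⟩, fun hr => h2 ?_, rfl⟩, fun ⟨w, hw, hwz⟩ => ?_⟩
          · obtain ⟨t, ht⟩ := hr
            exact ⟨t, by rw [← hs]; exact congrArg Subtype.val ht⟩
          · have hwz' : w.1 = b z := hwz
            refine ⟨show g (b z) ∈ U from hwz' ▸ w.2, fun ⟨t, ht⟩ => hw ⟨t, Subtype.ext ?_⟩⟩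
            show G.ι (s t) = w.1
            rw [← Scheme.Hom.comp_apply, hs, ht, hwz']
        rw [h]
        exact (G.ι.isOpenEmbedding.isOpenMap _ s.isClosedEmbedding.isClosed_range.isOpen_compl).preimage
          b.continuous
      obtain ⟨z, ⟨-, hz⟩, hz'⟩ := dense_iff_inter_open.1 (dense_preimage_compl hb) _ hopen
        ⟨y, hy, hyV⟩
      have hz'' : b z ∉ (K.support : Set Y) := hz'
      rw [hK] at hz''
      exact hz (not_not.1 hz'')
    · rintro _ ⟨t, rfl⟩
      refine ⟨t, ?_⟩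
      show (i ≫ g) t = f (l t)
      rw [← Scheme.Hom.comp_apply l f, ← reassoc_of% hl]
  have : IsIso (f ∣_ U) := by
    let e := l.isoOpensRange.hom ≫ (Y₁.isoOfEq hpre.symm).hom
    have he : e ≫ (f ∣_ U) = (i ≫ g).isoOpensRange.hom := by
      rw [← cancel_mono U.ι, Category.assoc, morphismRestrict_ι, Scheme.Hom.isoOpensRange_hom_ι]
      simp only [e, Category.assoc, Scheme.isoOfEq_hom_ι_assoc, Scheme.Hom.isoOpensRange_hom_ι_assoc,
        f, reassoc_of% hl]
    have : IsIso (e ≫ (f ∣_ U)) := by rw [he]; infer_instance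
    exact IsIso.of_isIso_comp_left e _
  obtain ⟨I, J, Y', c, hc, hI, hcJ, hJ⟩ :=
    FlatCrit65.Blow.exists_common_blowUp f U (isCompact_of_isNoetherian U)
  have hle : b ⁻¹ᵁ V ≤ f ⁻¹ᵁ U := by
    rw [hpre]
    intro y hy
    show y ∈ Set.range l
    rw [range_lift_blowUp hb i hKi l hl]
    exact hy
  obtain ⟨L, hLc, hL⟩ := FlatCrit65.Blow.exists_admissible_comp
    (U := V) ⟨isFiniteTypeIdeal_of_isLocallyNoetherian K, hKi⟩ hb I
    ⟨hI.1, hI.2.mono_right hle⟩ hc
  exact ⟨L, J, Y', c ≫ b, hLc, hL.2, (Category.assoc c b g).symm ▸ hcJ, hJ.2⟩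

/-- Blow-ups pull back along localizing immersions. -/
theorem exists_pullback_blowUp [IsNoetherian Y] (k : Y ⟶ X) (hk : LocImm.IsLocImmersion k)
    (hb : BlowUp.IsBlowUp b I) :
    BlowUp.IsBlowUp (pullback.fst k b) (I.comap k) ∧ LocImm.IsLocImmersion (pullback.snd k b) := by
  have := flat_of_isLocImmersion k hk
  exact ⟨Div89.isBlowUp_flat_baseChange k hb, isLocImmersion_pullback_snd k b hk⟩

lemma disjoint_support_comap {J : X.IdealSheafData} (k : Y ⟶ X) {s : Set Y}
    (h : Disjoint (J.support : Set X) ((fun y => k y) '' s)) :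
    Disjoint ((J.comap k).support : Set Y) s := by
  rw [Scheme.IdealSheafData.support_comap]
  exact Set.disjoint_left.2 fun y hy hys => Set.disjoint_left.1 h hy ⟨y, hys, rfl⟩

end Groth.Agent.LocImm58
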