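import Groth.Agent.Amp73.Local
import Mathlib.AlgebraicGeometry.Limits

/-!
Dense affine opens through a point, for finitely many irreducible components.
-/

set_option autoImplicit false
universe u

open CategoryTheory AlgebraicGeometry TopologicalSpace

namespace Groth.Agent.LocImm58

theorem exists_dense_affineOpen_mem {X : Scheme.{u}} (hfin : (irreducibleComponents X).Finite) (x : X) :
    ∃ U : X.Opens, x ∈ U ∧ IsAffineOpen U ∧ Dense (U : Set X) := by
  classical
  obtain ⟨V, hV, hxV, -⟩ := exists_isAffineOpen_mem_and_subset (x := x) (U := ⊤) trivial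
  let K : Set (Set X) := {Z ∈ irreducibleComponents X | Z ∩ (V : Set X) = ∅}
  have hO : ∀ Z ∈ K, ∃ U : X.Opens, IsAffineOpen U ∧ (U : Set X) ⊆ Z ∧ (U : Set X).Nonempty := by
    rintro Z ⟨hZ, -⟩
    let O : X.Opens := ⟨(⋃₀ (irreducibleComponents X \ {Z}))ᶜ, by
      rw [Set.sUnion_eq_biUnion, isOpen_compl_iff]
      exact hfin.sdiff.isClosed_biUnion fun W hW => isClosed_of_mem_irreducibleComponents W hW.1⟩
    have hsub : (O : Set X) ⊆ Z := fun y hy => by
      by_contra h
      exact hy ⟨_, ⟨irreducibleComponent_mem_irreducibleComponents y,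
        fun e => h (e ▸ mem_irreducibleComponent)⟩, mem_irreducibleComponent⟩
    have hg : IsGenericPoint hZ.1.genericPoint Z :=
      hZ.1.isGenericPoint_genericPoint (isClosed_of_mem_irreducibleComponents Z hZ)
    have hη : hZ.1.genericPoint ∈ O := by
      rintro ⟨W, ⟨hW, hne⟩, hηW⟩
      refine hne (le_antisymm ?_ ?_)
      · exact hZ.2 hW.1 (hg.def ▸ closure_minimal (Set.singleton_subset_iff.2 hηW)
          (isClosed_of_mem_irreducibleComponents W hW))
      · exact hg.def ▸ closure_minimal (Set.singleton_subset_iff.2 hηW)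
          (isClosed_of_mem_irreducibleComponents W hW)
    obtain ⟨U, hU, hyU, hle⟩ := exists_isAffineOpen_mem_and_subset hη
    exact ⟨U, hU, fun z hz => hsub (hle hz), ⟨_, hyU⟩⟩
  choose! U hU hUZ hUne using hO
  have hKfin : K.Finite := hfin.subset (Set.sep_subset _ _)
  have hpair : K.Pairwise (Function.onFun Disjoint U) := by
    intro Z hZ Z' hZ' hne
    rw [Function.onFun, disjoint_iff, eq_bot_iff]
    intro y hy
    -- a point of `U Z` lies in no other component
    exfalso
    have hyo : ∀ Z ∈ K, ∀ y ∈ U Z, y ∈ Z := fun Z hZ y hy => hUZ Z hZ hy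
    have hg : IsGenericPoint hZ.1.1.genericPoint Z :=
      hZ.1.1.isGenericPoint_genericPoint (isClosed_of_mem_irreducibleComponents Z hZ.1)
    have hg' : IsGenericPoint hZ'.1.1.genericPoint Z' :=
      hZ'.1.1.isGenericPoint_genericPoint (isClosed_of_mem_irreducibleComponents Z' hZ'.1)
    have h1 : hZ.1.1.genericPoint ∈ U Z' :=
      hyo Z hZ y hy.1 |> hg.specializes |>.mem_open (U Z').2 <| hy.2
    have h2 : Z ⊆ Z' := hg.def ▸ closure_minimal (Set.singleton_subset_iff.2 (hUZ Z' hZ' h1))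
      (isClosed_of_mem_irreducibleComponents Z' hZ'.1)
    exact hne (le_antisymm h2 (hZ.1.2 hZ'.1.1 h2))
  have hdisj : Disjoint V (⨆ Z ∈ K, U Z) := by
    rw [disjoint_iff, eq_bot_iff]
    intro y hy
    obtain ⟨Z, hyZ⟩ := Opens.mem_iSup.1 hy.2
    obtain ⟨hZ, hyU⟩ := Opens.mem_iSup.1 hyZ
    exact (Set.eq_empty_iff_forall_notMem.1 hZ.2 y ⟨hUZ Z hZ hyU, hy.1⟩).elim
  refine ⟨V ⊔ ⨆ Z ∈ K, U Z, Or.inl hxV,
    hV.sup_of_disjoint (IsAffineOpen.biSup_of_disjoint hKfin hU hpair) hdisj, fun y => ?_⟩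
  have hZ := irreducibleComponent_mem_irreducibleComponents y
  set Z := irreducibleComponent y
  by_cases h : Z ∩ (V : Set X) = ∅
  · refine closure_mono (fun z hz => Or.inr (Opens.mem_iSup.2 ⟨Z, Opens.mem_iSup.2 ⟨⟨hZ, h⟩, hz⟩⟩))
      ((subset_closure_inter_of_isPreirreducible_of_isOpen hZ.1.isPreirreducible (U Z).isOpen
        (by rw [Set.inter_eq_right.mpr (hUZ Z ⟨hZ, h⟩)]; exact hUne Z ⟨hZ, h⟩)).trans
          (closure_mono Set.inter_subset_right) mem_irreducibleComponent)
  · exact closure_mono (fun z hz => Or.inl hz)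
      ((subset_closure_inter_of_isPreirreducible_of_isOpen hZ.1.isPreirreducible V.isOpen
        (Set.nonempty_iff_ne_empty.2 h)).trans (closure_mono Set.inter_subset_right) mem_irreducibleComponent)

end Groth.Agent.LocImm58
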