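import Groth.Agent.LocImm58.CoprodFamily
import Groth.Agent.LocImm58.Blow
import Groth.Agent.FlatMor67.CDMain
import Groth.Agent.S7197

/-!
Completely decomposed proper covers with ample families.
-/

set_option autoImplicit false
set_option backward.isDefEq.respectTransparency.types false
universe u

open CategoryTheory CategoryTheory.Limits AlgebraicGeometry TopologicalSpace

noncomputable section

namespace Groth.Agent.LocImm58

theorem isProper_coprodDesc' {X Y Z : Scheme.{u}} (f : X ⟶ Z) (g : Y ⟶ Z) [IsProper f] [IsProper g] :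
    IsProper (coprod.desc f g) := by
  rw [show coprod.desc f g = coprod.map f g ≫ coprod.desc (𝟙 Z) (𝟙 Z) by simp]
  have : IsProper (coprod.map f g) := IsZariskiLocalAtTarget.coprodMap f g ‹_› ‹_›
  infer_instance

theorem exists_cd_cover_on_closed {X : Scheme.{u}} [IsNoetherian X] (Z : Closeds X) :
    ∃ (Y : Scheme.{u}) (f : Y ⟶ X), IsProper f ∧ MoreMor.HasAmpleFamily Y ∧
      ∀ x ∈ (Z : Set X), ∃ s : Spec (X.residueField x) ⟶ Y, s ≫ f = X.fromSpecResidueField x := by
  have hnoe : NoetherianSpace X := inferInstance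
  have hwf : WellFoundedLT (Closeds X) :=
    ((noetherianSpace_TFAE X).out 0 1 : NoetherianSpace X ↔ WellFoundedLT (Closeds X)).mp hnoe
  induction Z using WellFoundedLT.induction with
  | ind Z IH =>
  let i := (Scheme.IdealSheafData.vanishingIdeal Z).subschemeι
  have hi : Set.range i = (Z : Set X) := by
    rw [Scheme.IdealSheafData.range_subschemeι, Scheme.IdealSheafData.coe_support_vanishingIdeal]
  have := isNoetherian_of_finiteType i
  obtain ⟨U, I, T', b, -, hUd, hadm, hb, hfam⟩ := Groth.Agent.S7197.result _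
    (TopologicalSpace.NoetherianSpace.finite_irreducibleComponents
      (α := (Scheme.IdealSheafData.vanishingIdeal Z).subscheme))
  have := isProper_blowUp hb
  obtain ⟨l, hl⟩ := exists_lift_blowUp hb U.ι (by rw [Scheme.Opens.range_ι]; exact hadm.2)
  -- the part over the dense open
  have hU : ∀ x ∈ (fun t => i t) '' (U : Set _),
      ∃ s : Spec (X.residueField x) ⟶ T', s ≫ b ≫ i = X.fromSpecResidueField x := by
    rintro _ ⟨t, ht, rfl⟩
    have hbij := FlatMor67.CDLimit.bijective_of_surjective i t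
      (FlatMor67.CDLimit.residueFieldMap_surjective_of_preimmersion i t)
    have : IsIso (i.residueFieldMap t) := (ConcreteCategory.isIso_iff_bijective _).mpr hbij
    let q := Spec.map (inv (i.residueFieldMap t)) ≫
      (Scheme.IdealSheafData.vanishingIdeal Z).subscheme.fromSpecResidueField t
    have hq : q ≫ i = X.fromSpecResidueField (i t) := by
      rw [Category.assoc, ← Scheme.Hom.SpecMap_residueFieldMap_fromSpecResidueField,
        ← Spec.map_comp_assoc, IsIso.hom_inv_id, Spec.map_id, Category.id_comp]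
    let qU := IsOpenImmersion.lift U.ι q (by
      rw [Scheme.Opens.range_ι]
      rintro _ ⟨z, rfl⟩
      show (Scheme.IdealSheafData.vanishingIdeal Z).subscheme.fromSpecResidueField t _ ∈ (U : Set _)
      rw [Scheme.fromSpecResidueField_apply]
      exact ht)
    refine ⟨qU ≫ l, ?_⟩
    rw [Category.assoc, reassoc_of% hl, IsOpenImmersion.lift_fac_assoc, hq]
  -- the rest
  let Z' : Closeds X := ⟨(fun t => i t) '' (U : Set _)ᶜ, i.isClosedMap _ U.2.isClosed_compl⟩
  by_cases hZ : (Z : Set X) = ∅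
  · refine ⟨T', b ≫ i, inferInstance, hfam, fun x hx => ?_⟩
    rw [hZ] at hx
    exact hx.elim
  have hlt : Z' < Z := by
    refine lt_of_le_of_ne ?_ fun he => ?_
    · rintro _ ⟨t, -, rfl⟩
      exact hi.le ⟨t, rfl⟩
    · obtain ⟨x, hx⟩ := Set.nonempty_iff_ne_empty.2 hZ
      obtain ⟨t, rfl⟩ := hi.ge hx
      obtain ⟨t', -, ht'⟩ := dense_iff_inter_open.1 hUd Set.univ isOpen_univ ⟨t, trivial⟩
      have hmem : i t' ∈ (Z' : Set X) := by rw [he]; exact hi.le ⟨t', rfl⟩
      obtain ⟨t'', hn, heq⟩ := hmem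
      exact hn (i.isClosedEmbedding.injective heq ▸ ht')
  obtain ⟨Y', f', hf', hfam', hY'⟩ := IH Z' hlt
  refine ⟨T' ⨿ Y', coprod.desc (b ≫ i) f', isProper_coprodDesc' _ _, hasAmpleFamily_coprod hfam hfam', fun x hx => ?_⟩
  obtain ⟨t, rfl⟩ := hi.ge hx
  by_cases ht : t ∈ U
  · obtain ⟨s, hs⟩ := hU (i t) ⟨t, ht, rfl⟩
    exact ⟨s ≫ coprod.inl, by rw [Category.assoc, coprod.inl_desc, hs]⟩
  · obtain ⟨s, hs⟩ := hY' (i t) ⟨t, ht, rfl⟩
    exact ⟨s ≫ coprod.inr, by rw [Category.assoc, coprod.inr_desc, hs]⟩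

end Groth.Agent.LocImm58
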