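import Groth.Agent.Amp73.Coprod
import Groth.Agent.Amp73.Local
import Groth.Agent.EGA73.CoprodModule
import Groth.Agent.FlatMor67.AmpleFamily

/-!
Disjoint unions of schemes with ample families.
-/

set_option autoImplicit false
universe u

open CategoryTheory CategoryTheory.Limits AlgebraicGeometry Opposite TopologicalSpace

noncomputable section

namespace Groth.Agent.LocImm58

open Amp73 Var76.LineBundle Var76.ZeroScheme

variable {X : Scheme.{u}}

theorem exists_genLocus_eq_basicOpen (g : Γ(X, ⊤)) :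
    ∃ σ : Coh.structureModule X ⟶ Coh.structureModule X, CohB1.genLocus _ σ = X.basicOpen g := by
  let σ := Var76.Frames.ofSection (Coh.structureModule X) g
  have he : IsFrame (Coh.structureModule X) ⊤ (val (Coh.structureModule X) (𝟙 _) ⊤) :=
    (isFrame_iff_le_genLocus _ _).2 genLocus_id.ge
  obtain ⟨c, hc⟩ := exists_coord σ he
  refine ⟨σ, ?_⟩
  have h : c = g := by
    have h1 := hc.trans (Var76.Frames.val_ofSection (Coh.structureModule X) g ⊤)
    exact (mul_one c).symm.trans (h1.trans (res_self (Coh.structureModule X) g))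
  have h2 := genLocus_inf_eq_basicOpen σ he hc
  rw [inf_top_eq, h] at h2
  exact h2

theorem exists_affine_genLocus_of_clopen [CompactSpace X] [QuasiSeparatedSpace X] {W : Scheme.{u}}
    (j : W ⟶ X) [IsOpenImmersion j] (hj : IsClosed (Set.range j)) {L : X.Modules} (hL : PicF.IsInvertible L)
    {G : W.Opens} (hG : G ∈ GenSet (L.restrict j)) (hGa : IsAffineOpen G) :
    ∃ (L' : X.Modules) (n : ℕ) (s : Coh.structureModule X ⟶ CohB1.tensorPow L' n), PicF.IsInvertible L' ∧
      1 ≤ n ∧ CohB1.genLocus _ s = j ''ᵁ G ∧ IsAffineOpen (j ''ᵁ G) := by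
  let B : X.Opens := ⟨(Set.range j)ᶜ, hj.isOpen_compl⟩
  obtain ⟨g, hg⟩ := exists_basicOpen_eq j.opensRange B (fun z _ => em (z ∈ Set.range j))
    (eq_bot_iff.2 fun z hz => (hz.2 hz.1).elim)
  obtain ⟨σ, hσ⟩ := exists_genLocus_eq_basicOpen g
  obtain ⟨L', s, hL', hs⟩ := FlatMor67.AmpFam.image_genLocus hL EGA73.isInvertible_structureModule σ j
    (hσ.trans hg).symm hG
  exact ⟨L', 1, s ≫ (powOne L').inv, hL', le_rfl, (genLocus_comp_iso _ _).trans hs,
    hGa.image_of_isOpenImmersion j⟩

theorem hasAmpleFamily_coprod {Y Y' : Scheme.{u}} (h : MoreMor.HasAmpleFamily Y) (h' : MoreMor.HasAmpleFamily Y') :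
    MoreMor.HasAmpleFamily (Y ⨿ Y') := by
  have := h.1
  have := h'.1
  have := FlatMor67.AmpFam.quasiSeparatedSpace_of_hasAmpleFamily h
  have := FlatMor67.AmpFam.quasiSeparatedSpace_of_hasAmpleFamily h'
  let l : Y ⟶ Y ⨿ Y' := coprod.inl
  let r : Y' ⟶ Y ⨿ Y' := coprod.inr
  have hc : IsCompl (Set.range l) (Set.range r) := isCompl_range_inl_inr Y Y'
  have hcl : IsClosed (Set.range l) := by
    rw [hc.eq_compl]; exact r.isOpenEmbedding.isOpen_range.isClosed_compl
  have hcr : IsClosed (Set.range r) := by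
    rw [hc.symm.eq_compl]; exact l.isOpenEmbedding.isOpen_range.isClosed_compl
  have hcov : ∀ z, z ∈ Set.range l ∨ z ∈ Set.range r := fun z => hc.codisjoint.top_le (Set.mem_univ z)
  have hcpt : CompactSpace ↥(Y ⨿ Y') := ⟨by
    rw [show (Set.univ : Set ↥(Y ⨿ Y')) = Set.range l ∪ Set.range r from
      (Set.eq_univ_of_forall hcov).symm]
    exact (isCompact_range l.continuous).union (isCompact_range r.continuous)⟩
  have hqs : QuasiSeparatedSpace ↥(Y ⨿ Y') := by
    refine QuasiSeparatedSpace.of_isOpenCover (U := fun b : Bool => bif b then l.opensRange else r.opensRange)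
      (IsOpenCover.mk (top_le_iff.mp fun z _ => Opens.mem_iSup.mpr ?_)) (fun b V hVc _ => ?_) fun b => ?_
    · rcases hcov z with h | h
      exacts [⟨true, h⟩, ⟨false, h⟩]
    · cases b
      · exact hVc.inter_left hcr
      · exact hVc.inter_left hcl
    · cases b
      · exact (isQuasiSeparated_iff_quasiSeparatedSpace _ r.opensRange.2).2
          (quasiSeparatedSpace_of_quasiSeparated r.isoOpensRange.inv)
      · exact (isQuasiSeparated_iff_quasiSeparatedSpace _ l.opensRange.2).2
          (quasiSeparatedSpace_of_quasiSeparated l.isoOpensRange.inv)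
  refine ⟨hcpt, fun z => ?_⟩
  rcases hcov z with ⟨y, rfl⟩ | ⟨y, rfl⟩
  · obtain ⟨L, n, s, hL, hn, hy, ha⟩ := h.2 y
    obtain ⟨M, ⟨e⟩, ⟨e'⟩⟩ := EGA73.exists_coprod_module L (Coh.structureModule Y')
    have i : M.restrict l ≅ L := (Scheme.Modules.restrictFunctorIsoPullback l).app M ≪≫ e
    have i' : M.restrict r ≅ Coh.structureModule Y' := (Scheme.Modules.restrictFunctorIsoPullback r).app M ≪≫ e'
    have hM : PicF.IsInvertible M := isInvertible_of_cover fun x => by
      rcases hcov x with hx | hx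
      · exact ⟨Y, l, inferInstance, hx, EGA73.isInvertible_of_iso i.symm hL⟩
      · exact ⟨Y', r, inferInstance, hx, EGA73.isInvertible_of_iso i'.symm EGA73.isInvertible_structureModule⟩
    obtain ⟨n, rfl⟩ := Nat.exists_eq_add_of_le' hn
    obtain ⟨L', m, t, hL', hm, ht, hta⟩ := exists_affine_genLocus_of_clopen l hcl hM
      (mem_genSet_of_iso i.inv ⟨n, s, rfl⟩) ha
    exact ⟨L', m, t, hL', hm, ht.ge ⟨y, hy, rfl⟩, ht.symm ▸ hta⟩
  · obtain ⟨L, n, s, hL, hn, hy, ha⟩ := h'.2 y
    obtain ⟨M, ⟨e'⟩, ⟨e⟩⟩ := EGA73.exists_coprod_module (Coh.structureModule Y) L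
    have i : M.restrict r ≅ L := (Scheme.Modules.restrictFunctorIsoPullback r).app M ≪≫ e
    have i' : M.restrict l ≅ Coh.structureModule Y := (Scheme.Modules.restrictFunctorIsoPullback l).app M ≪≫ e'
    have hM : PicF.IsInvertible M := isInvertible_of_cover fun x => by
      rcases hcov x with hx | hx
      · exact ⟨Y, l, inferInstance, hx, EGA73.isInvertible_of_iso i'.symm EGA73.isInvertible_structureModule⟩
      · exact ⟨Y', r, inferInstance, hx, EGA73.isInvertible_of_iso i.symm hL⟩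
    obtain ⟨n, rfl⟩ := Nat.exists_eq_add_of_le' hn
    obtain ⟨L', m, t, hL', hm, ht, hta⟩ := exists_affine_genLocus_of_clopen r hcr hM
      (mem_genSet_of_iso i.inv ⟨n, s, rfl⟩) ha
    exact ⟨L', m, t, hL', hm, ht.ge ⟨y, hy, rfl⟩, ht.symm ▸ hta⟩

end Groth.Agent.LocImm58
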