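import Groth.Agent.LocImm58.Basic
import Groth.Agent.SchLoc58.AtPoint
import Groth.Agent.SchLoc58.Allied
import Groth.Agent.ConstrTop58.Basic
import Mathlib.AlgebraicGeometry.Morphisms.Proper
import Mathlib.AlgebraicGeometry.IdealSheaf.Functorial

set_option autoImplicit false
universe u

open CategoryTheory Limits AlgebraicGeometry

namespace Groth.Agent.LocImm58

variable {X Y Z : Scheme.{u}}

lemma isLocImmersion_iff_mono [TopologicalSpace.NoetherianSpace X] (f : X ⟶ Y) :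
    LocImm.IsLocImmersion f ↔ (LocImm.IsLocalizing f ∧ Mono f) := by
  refine ⟨fun h => ⟨h.1, ?_⟩, fun ⟨h, hm⟩ => ⟨h, f.injective⟩⟩
  have := isPreimmersion f h
  infer_instance

lemma isOpenImmersion_of_locallyOfFiniteType [IsNoetherian X] [IsLocallyNoetherian Y] (f : X ⟶ Y)
    (hf : LocImm.IsLocImmersion f) [LocallyOfFiniteType f] : IsOpenImmersion f := by
  refine IsOpenImmersion.iff_isIso_stalkMap.mpr ⟨.of_continuous_injective_isOpenMap f.continuous
    hf.2 fun s hs => ?_, isIso_stalkMap f hf.1⟩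
  refine isOpen_iff_forall_mem_open.mpr ?_
  rintro _ ⟨x, hx, rfl⟩
  obtain ⟨U, hxU, hU⟩ := (SchLoc58.isLocalIsoAt_iff_isIso_stalkMap f x).mpr (isIso_stalkMap f hf.1 x)
  refine ⟨(U.ι ≫ f) '' (U.ι ⁻¹' s), ?_, (U.ι ≫ f).isOpenEmbedding.isOpenMap _
    (hs.preimage U.ι.continuous), ⟨⟨x, hxU⟩, hx, rfl⟩⟩
  rintro _ ⟨y, hy, rfl⟩
  exact ⟨U.ι y, hy, rfl⟩

lemma isOpenImmersion_of_isClosed_range [IsNoetherian X] [IsNoetherian Y] (f : X ⟶ Y)
    (hf : LocImm.IsLocImmersion f) (hc : IsClosed (Set.range f)) : IsOpenImmersion f := by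
  refine IsOpenImmersion.iff_isIso_stalkMap.mpr ⟨⟨isEmbedding f hf, ?_⟩, isIso_stalkMap f hf.1⟩
  exact ConstrTop58.isOpen_of_stableUnderGeneralization (ConstrTop58.isConstructible_of_isClosed hc)
    (stableUnderGeneralization_range f hf.1)

lemma exists_idealSheaf_comap_eq [IsNoetherian X] (f : X ⟶ Y)
    (hf : LocImm.IsLocImmersion f) (I : X.IdealSheafData) :
    ∃ J : Y.IdealSheafData, J.comap f = I := by
  refine ⟨I.map f, le_antisymm (Scheme.IdealSheafData.comap_map_le I f) ?_⟩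
  choose V hxV _ hV hV' hl using fun x => exists_affine_chart f hf x (O := ⊤) trivial
  have hcov : ⨆ x, f ⁻¹ᵁ V x = ⊤ :=
    eq_top_iff.mpr fun x _ => TopologicalSpace.Opens.mem_iSup.mpr ⟨x, hxV x⟩
  refine Scheme.IdealSheafData.le_of_iSup_eq_top (fun x => ⟨f ⁻¹ᵁ V x, hV' x⟩) hcov fun x => ?_
  intro b hb
  obtain ⟨a, s, hs, e⟩ := (isLocHom_iff.mp (hl x)).1 b
  have ha : a ∈ (I.map f).ideal ⟨V x, hV x⟩ := by
    rw [Scheme.IdealSheafData.ideal_map I f ⟨V x, hV x⟩ (hV' x), Ideal.mem_comap, ← e]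
    exact Ideal.mul_mem_right _ _ hb
  have h2 : f.app (V x) a ∈ ((I.map f).comap f).ideal ⟨f ⁻¹ᵁ V x, hV' x⟩ := by
    have h3 : (I.map f) ≤ ((I.map f).comap f).map f := Scheme.IdealSheafData.le_map_comap _ f
    have h4 := h3 ⟨V x, hV x⟩ ha
    rwa [Scheme.IdealSheafData.ideal_map _ f ⟨V x, hV x⟩ (hV' x)] at h4
  obtain ⟨u, hu⟩ := hs.exists_right_inv
  have h3 : b = (f.app (V x)).hom a * u := by rw [← e, mul_assoc, hu, mul_one]
  rw [h3]
  exact Ideal.mul_mem_right _ _ h2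

lemma isLocImmersion_of_comp_of_app_injective [IsNoetherian X]
    (f : X ⟶ Y) (g : Y ⟶ Z) (hfg : LocImm.IsLocImmersion (f ≫ g))
    (hd : ∀ U : Y.Opens, IsAffineOpen U → Function.Injective (f.app U).hom) :
    LocImm.IsLocImmersion f := by
  refine isLocImmersion_of_charts f fun x => ?_
  obtain ⟨_, ⟨U, hU, rfl⟩, hxU, -⟩ :=
    Y.isBasis_affineOpens.exists_subset_of_mem_open (Set.mem_univ (f x)) isOpen_univ
  obtain ⟨O, hxO, hO⟩ := exists_open_preimage_subset (f ≫ g) hfg (W := f ⁻¹ᵁ U) hxU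
  obtain ⟨V, hxV, hVO, hV, hV', hl⟩ := exists_affine_chart (f ≫ g) hfg x hxO
  -- a smaller basic open of `V`, pulled back into `U`
  obtain ⟨_, ⟨U₁, hU₁, rfl⟩, hxU₁, hU₁le⟩ :=
    Y.isBasis_affineOpens.exists_subset_of_mem_open
      (show f x ∈ U ⊓ g ⁻¹ᵁ V from ⟨hxU, hxV⟩) (U ⊓ g ⁻¹ᵁ V).2
  obtain ⟨O₂, hxO₂, hO₂⟩ := exists_open_preimage_subset (f ≫ g) hfg (W := f ⁻¹ᵁ U₁) hxU₁
  obtain ⟨a, haO₂, hxa⟩ := hV.exists_basicOpen_le (⟨g (f x), hxO₂⟩ : O₂) hxV
  have e₁ : U₁ ≤ g ⁻¹ᵁ V := fun y hy => (hU₁le hy).2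
  let U₂ := Y.basicOpen (g.appLE V U₁ e₁ a)
  have hU₂ : IsAffineOpen U₂ := hU₁.basicOpen _
  have hpre : f ⁻¹ᵁ U₂ = (f ≫ g) ⁻¹ᵁ Z.basicOpen a := by
    simp only [U₂, Scheme.basicOpen_appLE, Scheme.Hom.comp_preimage]
    refine le_antisymm (f.preimage_mono inf_le_right) ?_
    exact le_inf ((f.preimage_mono (g.preimage_mono haO₂)).trans hO₂) le_rfl
  have hle2 : (f ≫ g) ⁻¹ᵁ Z.basicOpen a = X.basicOpen ((f ≫ g).app V a) :=
    Scheme.preimage_basicOpen _ _
  refine ⟨U₂, ?_, hU₂, ?_, ?_⟩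
  · show f x ∈ U₂
    simp only [U₂, Scheme.basicOpen_appLE]
    exact ⟨hxU₁, hxa⟩
  · rw [hpre, hle2]; exact hV'.basicOpen _
  · have e2 : U₂ ≤ g ⁻¹ᵁ Z.basicOpen a := basicOpen_appLE_le g e₁ a
    refine isLocHom_of_comp_injective (φ := (g.appLE (Z.basicOpen a) U₂ e2).hom) ?_ (hd U₂ hU₂)
    have h1 := isLocHom_appLE_basicOpen (f ≫ g) hV hV' le_rfl (by rwa [← Scheme.Hom.app_eq_appLE]) a
    have e3 : g.appLE (Z.basicOpen a) U₂ e2 ≫ f.app U₂ =
        (f ≫ g).appLE (Z.basicOpen a) (f ⁻¹ᵁ U₂) (f.preimage_mono e2) := by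
      rw [Scheme.Hom.app_eq_appLE, Scheme.Hom.appLE_comp_appLE]
    rw [← CommRingCat.hom_comp, e3]
    have gen : ∀ (W : X.Opens) (hW : W ≤ (f ≫ g) ⁻¹ᵁ Z.basicOpen a),
        W = X.basicOpen ((f ≫ g).appLE V _ le_rfl a) →
        LocImm.IsLocHom ((f ≫ g).appLE (Z.basicOpen a) W hW).hom := by
      rintro W hW rfl; exact h1
    refine gen _ _ ?_
    rw [hpre, hle2, Scheme.Hom.app_eq_appLE]

lemma isClosedImmersion_of_comp_of_isProper [IsNoetherian X] (f : X ⟶ Y) (g : Y ⟶ Z)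
    (hfg : LocImm.IsLocImmersion (f ≫ g)) [IsProper f] : IsClosedImmersion f := by
  have := isPreimmersion _ hfg
  have hinj : Function.Injective f := fun a b hab => hfg.2 (congrArg g hab)
  have : IsPreimmersion f :=
    { stalkMap_surjective := fun x => by
        intro b
        obtain ⟨c, hc⟩ := (f ≫ g).stalkMap_surjective x b
        rw [Scheme.Hom.stalkMap_comp] at hc
        exact ⟨_, hc⟩
      isEmbedding := (Topology.IsClosedEmbedding.of_continuous_injective_isClosedMap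
        f.continuous hinj f.isClosedMap).isEmbedding }
  exact IsClosedImmersion.of_isPreimmersion f f.isClosedMap.isClosed_range

lemma isLocalHom_stalkSpecializes_of_eq {y y' : Y} (h : y = y') :
    IsLocalHom (Y.presheaf.stalkSpecializes (specializes_of_eq h)).hom := by
  subst h
  rw [TopCat.Presheaf.stalkSpecializes_refl]
  infer_instance

lemma spec_hom_ext_of_isIso_stalkMap (f : X ⟶ Y) {R : CommRingCat.{u}} [IsLocalRing R]
    {g₁ g₂ : Spec R ⟶ X} (h : g₁ ≫ f = g₂ ≫ f) {x : X}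
    (h₁ : g₁ (IsLocalRing.closedPoint R) = x) (h₂ : g₂ (IsLocalRing.closedPoint R) = x)
    [IsIso (f.stalkMap x)] : g₁ = g₂ := by
  have key : ∀ (g : Spec R ⟶ X), g (IsLocalRing.closedPoint R) = x →
      ∃ φ, g = Spec.map φ ≫ X.fromSpecStalk x := by
    rintro g rfl
    exact ⟨_, (Scheme.Spec_stalkClosedPointTo_fromSpecStalk g).symm⟩
  obtain ⟨φ₁, rfl⟩ := key g₁ h₁
  obtain ⟨φ₂, rfl⟩ := key g₂ h₂
  rw [Category.assoc, Category.assoc, ← Scheme.SpecMap_stalkMap_fromSpecStalk, ← Spec.map_comp_assoc,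
    ← Spec.map_comp_assoc, cancel_mono, Spec.map_inj, cancel_epi] at h
  rw [h]

lemma injective_iff_isSeparated_and_injOn [IsNoetherian X] (f : X ⟶ Y)
    (hf : LocImm.IsLocalizing f) :
    Function.Injective f.base ↔
      (IsSeparated f ∧ Set.InjOn (fun x => f x) {x : X | ∀ x' : X, x' ⤳ x → x' = x}) := by
  refine ⟨fun h => ?_, fun ⟨hsep, hinj⟩ a b hab => ?_⟩
  · have := isPreimmersion f ⟨hf, h⟩
    exact ⟨inferInstance, h.injOn⟩
  change f a = f b at hab
  have ha := isIso_stalkMap f hf a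
  have hb := isIso_stalkMap f hf b
  -- a maximal generization of `a`
  obtain ⟨Z, hZ, haZ⟩ : ∃ Z ∈ irreducibleComponents X, a ∈ Z :=
    ⟨_, irreducibleComponent_mem_irreducibleComponents a, mem_irreducibleComponent⟩
  have hg : IsGenericPoint hZ.1.genericPoint Z :=
    hZ.1.isGenericPoint_genericPoint (isClosed_of_mem_irreducibleComponents Z hZ)
  let η := hZ.1.genericPoint
  have hηa : η ⤳ a := hg.specializes haZ
  have hηmax : ∀ x' : X, x' ⤳ η → x' = η := fun x' hx' => by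
    have hle : Z ⊆ closure {x'} := by
      rw [← hg.def]
      exact closure_minimal (Set.singleton_subset_iff.mpr hx'.mem_closure) isClosed_closure
    have h2 := hZ.2 isIrreducible_singleton.closure hle
    exact (hx'.antisymm (hg.specializes (h2 (subset_closure rfl)))).eq
  obtain ⟨η', ⟨hη'b, hη'⟩, -⟩ :=
    exists_unique_lift_generization f b (y := f η) (hab ▸ hηa.map f.continuous)
  have hη'max : ∀ x' : X, x' ⤳ η' → x' = η' := fun x' hx' => by
    have := isIso_stalkMap f hf η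
    obtain ⟨z, ⟨hz, hfz⟩, -⟩ :=
      exists_unique_lift_generization f η (y := f x') (hη' ▸ hx'.map f.continuous)
    rw [hηmax z hz] at hfz
    exact (exists_unique_lift_generization f b (y := f η) (hab ▸ hηa.map f.continuous)).unique
      ⟨hx'.trans hη'b, hfz.symm⟩ ⟨hη'b, hη'⟩
  obtain rfl : η = η' := hinj hηmax hη'max hη'.symm
  -- the two sections over the reduced local scheme at a generic point
  let B := X.presheaf.stalk a
  obtain ⟨p, hp⟩ : η ∈ Set.range (X.fromSpecStalk a) := by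
    rw [Scheme.range_fromSpecStalk]; exact hηa
  have hprime : (PrimeSpectrum.asIdeal p).IsPrime := PrimeSpectrum.isPrime p
  let q : CommRingCat.{u} := .of (B ⧸ p.asIdeal)
  let π : B ⟶ q := CommRingCat.ofHom (Ideal.Quotient.mk p.asIdeal)
  have : IsDomain q := Ideal.Quotient.isDomain p.asIdeal
  have : IsLocalRing q := IsLocalRing.of_surjective' π.hom Ideal.Quotient.mk_surjective
  have hπ : IsLocalHom π.hom := IsLocalHom.of_surjective _ Ideal.Quotient.mk_surjective
  let c : X.presheaf.stalk b ⟶ q :=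
    inv (f.stalkMap b) ≫ Y.presheaf.stalkSpecializes (specializes_of_eq hab) ≫ f.stalkMap a ≫ π
  let s₁ := Spec.map π ≫ X.fromSpecStalk a
  let s₂ := Spec.map c ≫ X.fromSpecStalk b
  have hover : s₁ ≫ f = s₂ ≫ f := by
    simp only [s₁, s₂, Category.assoc, ← Scheme.SpecMap_stalkMap_fromSpecStalk]
    rw [← Spec.map_comp_assoc, ← Spec.map_comp_assoc]
    simp only [c, IsIso.hom_inv_id_assoc]
    simp only [Spec.map_comp, Category.assoc, Scheme.SpecMap_stalkSpecializes_fromSpecStalk]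
  let K : CommRingCat.{u} := .of (FractionRing q)
  let ι : q ⟶ K := CommRingCat.ofHom (algebraMap q (FractionRing q))
  let w : Spec K := (default : PrimeSpectrum K)
  have hw₁ : (Spec.map ι ≫ s₁) w = η := by
    have h0 : Spec.map π (Spec.map ι w) = p := by
      apply PrimeSpectrum.ext
      show ((w.asIdeal.comap ι.hom).comap π.hom) = p.asIdeal
      have hwbot : (w.asIdeal : Ideal K) = ⊥ := (Ideal.eq_bot_or_top _).resolve_right w.isPrime.ne_top
      rw [hwbot]
      refine (congrArg (Ideal.comap π.hom) (Ideal.comap_bot_of_injective ι.hom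
        (IsFractionRing.injective q (FractionRing q)))).trans ?_
      exact Ideal.mk_ker
    exact (congrArg (X.fromSpecStalk a) h0).trans hp
  have hw₂ : (Spec.map ι ≫ s₂) w = η := by
    have h1 : f ((Spec.map ι ≫ s₂) w) = f η := by
      rw [← hw₁]
      exact (congr($(congrArg (Spec.map ι ≫ ·) hover) w)).symm
    have h2 : (Spec.map ι ≫ s₂) w ⤳ b :=
      (Scheme.range_fromSpecStalk (x := b)).le
        ⟨Spec.map c (Spec.map ι w), rfl⟩
    exact (exists_unique_lift_generization f b (y := f η) (hab ▸ hηa.map f.continuous)).unique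
      ⟨h2, h1⟩ ⟨hη'b, rfl⟩
  have hgen : Spec.map ι ≫ s₁ = Spec.map ι ≫ s₂ := by
    have hs := isIso_stalkMap f hf η
    have hw : w = IsLocalRing.closedPoint K := Subsingleton.elim (α := PrimeSpectrum K) _ _
    exact spec_hom_ext_of_isIso_stalkMap f (by simp only [Category.assoc, hover])
      (hw ▸ hw₁) (hw ▸ hw₂)
  have hs12 : s₁ = s₂ := by
    have : IsDominant (Spec.map ι) := ⟨(PrimeSpectrum.denseRange_comap_iff_ker_le_nilRadical ι.hom).mpr
      (((RingHom.injective_iff_ker_eq_bot ι.hom).mp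
        (IsFractionRing.injective q (FractionRing q))).le.trans bot_le)⟩
    exact ext_of_isDominant_of_isSeparated f hover (Spec.map ι) hgen
  have hc : IsLocalHom c.hom := by
    have := isLocalHom_stalkSpecializes_of_eq hab
    have h1 : IsLocalHom (inv (f.stalkMap b)).hom := inferInstance
    simp only [c, CommRingCat.hom_comp]
    infer_instance
  have := congr($hs12 (IsLocalRing.closedPoint q))
  exact (SchLoc58.specMap_fromSpecStalk_closedPoint π).symm.trans
    (this.trans (SchLoc58.specMap_fromSpecStalk_closedPoint c))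

lemma isLocImmersion_pullback_snd {Y' : Scheme.{u}} [IsNoetherian X] (f : X ⟶ Y) (g : Y' ⟶ Y)
    (hf : LocImm.IsLocImmersion f) : LocImm.IsLocImmersion (pullback.snd f g) := by
  refine isLocImmersion_of_charts _ fun z => ?_
  obtain ⟨V, hxV, -, hV, hV', hl⟩ := exists_affine_chart f hf (pullback.fst f g z) (O := ⊤) trivial
  have hz : g (pullback.snd f g z) = f (pullback.fst f g z) := by
    rw [← Scheme.Hom.comp_apply, ← Scheme.Hom.comp_apply, pullback.condition]
  obtain ⟨_, ⟨W, hW, rfl⟩, hzW, hWV⟩ :=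
    Y'.isBasis_affineOpens.exists_subset_of_mem_open
      (show pullback.snd f g z ∈ g ⁻¹ᵁ V from (hz ▸ hxV : g _ ∈ V)) (g ⁻¹ᵁ V).2
  replace hWV : W ≤ g ⁻¹ᵁ V := hWV
  have hpre : pullback.snd f g ⁻¹ᵁ W =
      pullback.fst f g ⁻¹ᵁ (f ⁻¹ᵁ V) ⊓ pullback.snd f g ⁻¹ᵁ W := by
    refine le_antisymm (le_inf ?_ le_rfl) inf_le_right
    rw [← Scheme.Hom.comp_preimage, pullback.condition, Scheme.Hom.comp_preimage]
    exact (pullback.snd f g).preimage_mono hWV
  have H := IsPullback.of_hasPullback f g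
  have : IsAffine _ := hV
  have : IsAffine _ := hV'
  have : IsAffine _ := hW
  refine ⟨W, hzW, hW, .of_isIso (Scheme.Hom.isPullback_resLE H hWV le_rfl hpre).isoPullback.hom, ?_⟩
  have hP := (isIso_pushoutSection_iff H hWV le_rfl hpre).mp
    (isIso_pushoutSection_of_isAffineOpen H hWV le_rfl hpre hV hW hV')
  have := isLocHom_of_isPushout hP (by rw [← Scheme.Hom.app_eq_appLE]; exact hl)
  rw [Scheme.Hom.app_eq_appLE]
  exact this

end Groth.Agent.LocImm58
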