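import Groth.Agent.LocImm58.Ops
import Groth.Agent.LocImm58.Props
import Groth.Agent.SchDense58.Basic
import Groth.Prelude.Def_EssFT
import Mathlib.AlgebraicGeometry.Morphisms.FiniteType

set_option autoImplicit false
universe u

open CategoryTheory Limits AlgebraicGeometry

namespace Groth.Agent.LocImm58

variable {X Y Z : Scheme.{u}}

lemma locallyEssFiniteType_of_locallyOfFiniteType (f : X ⟶ Y) [LocallyOfFiniteType f] :
    EssFT.LocallyEssFiniteType f := by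
  refine ⟨fun x => ?_⟩
  obtain ⟨_, ⟨U, hU, rfl⟩, hxU, -⟩ :=
    Y.isBasis_affineOpens.exists_subset_of_mem_open (Set.mem_univ (f x)) isOpen_univ
  obtain ⟨_, ⟨V, hV, rfl⟩, hxV, e⟩ :=
    X.isBasis_affineOpens.exists_subset_of_mem_open hxU (f ⁻¹ᵁ U).2
  exact ⟨⟨U, hU⟩, ⟨V, hV⟩, hxV, e, RingHom.FiniteType.essFiniteType (f.finiteType_appLE hU hV e)⟩

lemma essFiniteType_of_finiteType (f : X ⟶ Y) [LocallyOfFiniteType f] [QuasiCompact f] :
    EssFT.EssFiniteType f :=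
  { locallyEssFiniteType_of_locallyOfFiniteType f with
    isCompact_preimage := QuasiCompact.isCompact_preimage }

/-- Charts with essentially finite type ring maps exist inside given neighbourhoods. -/
lemma exists_essFiniteType_chart (f : X ⟶ Y) [EssFT.LocallyEssFiniteType f] (x : X) {O : Y.Opens}
    (hO : f x ∈ O) :
    ∃ (U : Y.Opens) (V : X.Opens) (_ : IsAffineOpen U) (_ : IsAffineOpen V) (_ : x ∈ V)
      (e : V ≤ f ⁻¹ᵁ U), U ≤ O ∧ (f.appLE U V e).hom.EssFiniteType := by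
  obtain ⟨_, ⟨U, hU, rfl⟩, hxU, hUO⟩ := Y.isBasis_affineOpens.exists_subset_of_mem_open hO O.2
  obtain ⟨_, ⟨V, hV, rfl⟩, hxV, e⟩ :=
    X.isBasis_affineOpens.exists_subset_of_mem_open hxU (f ⁻¹ᵁ U).2
  replace e : V ≤ f ⁻¹ᵁ U := e
  obtain ⟨s, hs, H⟩ :=
    HasRingHomProperty.appLE (P := @EssFT.LocallyEssFiniteType) f ‹_› ⟨U, hU⟩ ⟨V, hV⟩ e
  obtain ⟨t, hts, ht⟩ : ∃ t ∈ s, t ∉ (hV.primeIdealOf ⟨x, hxV⟩).asIdeal := by
    by_contra hc
    push Not at hc
    exact (hV.primeIdealOf ⟨x, hxV⟩).isPrime.ne_top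
      (top_le_iff.mp (hs.ge.trans (Ideal.span_le.mpr hc)))
  have := hV.isLocalization_basicOpen t
  let ε := IsLocalization.algEquiv (Submonoid.powers t) (Localization.Away t) Γ(X, X.basicOpen t)
  refine ⟨U, X.basicOpen t, hU, hV.basicOpen t, SchLoc58.mem_basicOpen_of_notMem hV hxV t ht,
    (X.basicOpen_le t).trans e, hUO, ?_⟩
  have h2 : (f.appLE U V e ≫ X.presheaf.map (homOfLE (X.basicOpen_le t)).op).hom =
      (ε.toRingEquiv.toRingHom).comp
        ((algebraMap Γ(X, V) (Localization.Away t)).comp (f.appLE U V e).hom) := by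
    refine RingHom.ext fun a => ?_
    exact (ε.commutes ((f.appLE U V e).hom a)).symm
  rw [Scheme.Hom.appLE_map] at h2
  rw [h2]
  exact RingHom.EssFiniteType.respectsIso.1 _ ε.toRingEquiv (H t hts)

/-- A morphism essentially of finite type which is an isomorphism on a stalk is localizing
there. -/
lemma exists_isLocHom_of_isIso_stalkMap [IsLocallyNoetherian Y] (g : X ⟶ Y)
    [EssFT.LocallyEssFiniteType g] (x : X) [IsIso (g.stalkMap x)] :
    ∃ (U : Y.affineOpens) (V : X.affineOpens) (_ : x ∈ V.1) (e : V.1 ≤ g ⁻¹ᵁ U.1),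
      LocImm.IsLocHom (g.appLE U V e).hom := by
  obtain ⟨U, V, hU, hV, hxV, e, -, hess⟩ := exists_essFiniteType_chart g x (O := ⊤) trivial
  let φ := g.appLE U V e
  let : Algebra Γ(Y, U) Γ(X, V) := φ.hom.toAlgebra
  have : Algebra.EssFiniteType Γ(Y, U) Γ(X, V) := hess
  have : IsNoetherianRing Γ(Y, U) := IsLocallyNoetherian.component_noetherian ⟨U, hU⟩
  let B₀ := Algebra.EssFiniteType.subalgebra Γ(Y, U) Γ(X, V)
  let M := Algebra.EssFiniteType.submonoid Γ(Y, U) Γ(X, V)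
  let ι₀ : B₀ →+* Γ(X, V) := algebraMap B₀ Γ(X, V)
  let qq := (hV.primeIdealOf ⟨x, hxV⟩).asIdeal
  let q₀ : Ideal B₀ := qq.comap ι₀
  have hι : ∀ a, ι₀ (algebraMap Γ(Y, U) B₀ a) = φ a := fun a => rfl
  have hM : ∀ m : M, ι₀ m.1 ∉ qq := fun m hm =>
    (hV.primeIdealOf ⟨x, hxV⟩).isPrime.ne_top
      (Ideal.eq_top_of_isUnit_mem _ hm (IsLocalization.map_units Γ(X, V) m))
  have H1 : ∀ b : B₀, ∃ (a s : Γ(Y, U)) (h : B₀), algebraMap Γ(Y, U) B₀ s ∉ q₀ ∧ h ∉ q₀ ∧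
      h * (algebraMap Γ(Y, U) B₀ s * b - algebraMap Γ(Y, U) B₀ a) = 0 := by
    intro b
    obtain ⟨a, s, h, hs, hh, e0⟩ := SchLoc58.fraction_of_stalkMap_surjective g hU hV e hxV
      (ConcreteCategory.bijective_of_isIso (g.stalkMap x)).2 (ι₀ b)
    obtain ⟨⟨c, m⟩, hc⟩ := IsLocalization.surj M h
    have hc' : ι₀ c = h * ι₀ m.1 := hc.symm
    obtain ⟨m', hm'⟩ := (IsLocalization.map_eq_zero_iff M Γ(X, V)
      (c * (algebraMap Γ(Y, U) B₀ s * b - algebraMap Γ(Y, U) B₀ a))).mp (by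
        show ι₀ _ = 0
        rw [map_mul, map_sub, map_mul, hι, hι, hc']
        linear_combination ι₀ m.1 * e0)
    refine ⟨a, s, m'.1 * c, hs, ?_, by rw [mul_assoc]; exact hm'⟩
    show ι₀ (m'.1 * c) ∉ qq
    rw [map_mul, hc']
    exact fun hh' => (Ideal.IsPrime.mem_or_mem inferInstance hh').elim (hM m') fun h2 =>
      (Ideal.IsPrime.mem_or_mem inferInstance h2).elim hh (hM m)
  have H2 : ∀ (a : Γ(Y, U)) (h : B₀), h ∉ q₀ → h * algebraMap Γ(Y, U) B₀ a = 0 →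
      ∃ s : Γ(Y, U), algebraMap Γ(Y, U) B₀ s ∉ q₀ ∧ s * a = 0 := by
    intro a h hh e0
    have e1 : ι₀ h * φ a = 0 := by rw [← hι, ← map_mul, e0, map_zero]
    exact SchLoc58.kill_of_stalkMap_injective g hU hV e hxV
      (ConcreteCategory.bijective_of_isIso (g.stalkMap x)).1 a (ι₀ h) hh e1
  obtain ⟨a, h, ha, hh, hbij⟩ := SchLoc58.exists_bijective_away q₀ H1 H2
  let w : B₀ := algebraMap Γ(Y, U) B₀ a * h
  let t : Γ(X, V) := ι₀ w
  have ht : t ∉ qq := fun hw =>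
    (Ideal.IsPrime.mem_or_mem (inferInstance : q₀.IsPrime) (show w ∈ q₀ from hw)).elim ha hh
  have := hV.isLocalization_basicOpen t
  refine ⟨⟨U, hU⟩, ⟨X.basicOpen t, hV.basicOpen t⟩,
    SchLoc58.mem_basicOpen_of_notMem hV hxV t ht, (X.basicOpen_le t).trans e, ?_⟩
  let res : Γ(X, V) →+* Γ(X, X.basicOpen t) := algebraMap _ _
  let A' := Localization.Away a
  let B' := Localization.Away w
  have huA : IsUnit (algebraMap B₀ B' (algebraMap Γ(Y, U) B₀ a)) := by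
    have h1 : IsUnit (algebraMap B₀ B' w) := IsLocalization.Away.algebraMap_isUnit w
    rw [map_mul, IsUnit.mul_iff] at h1
    exact h1.1
  let ψ : A' →+* B' := IsLocalization.Away.lift (g := (algebraMap B₀ B').comp (algebraMap Γ(Y, U) B₀)) a huA
  have hψ : ∀ z, ψ (algebraMap Γ(Y, U) A' z) = algebraMap B₀ B' (algebraMap Γ(Y, U) B₀ z) :=
    fun z => IsLocalization.Away.lift_eq a huA z
  have hu : IsUnit ((res.comp ι₀) w) := IsLocalization.Away.algebraMap_isUnit t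
  let χ : B' →+* Γ(X, X.basicOpen t) := IsLocalization.Away.lift (g := res.comp ι₀) w hu
  have hχ : χ.comp (algebraMap B₀ B') = res.comp ι₀ :=
    RingHom.ext fun z => IsLocalization.Away.lift_eq w hu z
  have l1 : LocImm.IsLocHom ((algebraMap B₀ B').comp (algebraMap Γ(Y, U) B₀)) := by
    have : (algebraMap B₀ B').comp (algebraMap Γ(Y, U) B₀) = ψ.comp (algebraMap Γ(Y, U) A') :=
      RingHom.ext fun z => (hψ z).symm
    rw [this]
    exact isLocHom_comp (isLocHom_algebraMap (Submonoid.powers a))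
      (isLocHom_of_bijective (hbij A' B' ψ hψ))
  have l2 : LocImm.IsLocHom χ := by
    refine isLocHom_of_comp (φ := algebraMap B₀ B') (isLocHom_algebraMap (Submonoid.powers w)) ?_
    rw [hχ]
    exact isLocHom_comp (isLocHom_algebraMap M) (isLocHom_algebraMap (Submonoid.powers t))
  have key : (g.appLE U (X.basicOpen t) ((X.basicOpen_le t).trans e)).hom =
      χ.comp ((algebraMap B₀ B').comp (algebraMap Γ(Y, U) B₀)) := by
    rw [← RingHom.comp_assoc, hχ, ← Scheme.Hom.appLE_map g e (homOfLE (X.basicOpen_le t)).op]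
    rfl
  rw [key]
  exact isLocHom_comp l1 l2

lemma isNoetherian_opens [IsNoetherian X] (U : X.Opens) : IsNoetherian (U : Scheme) :=
  { toIsLocallyNoetherian := inferInstance
    toCompactSpace := isCompact_iff_compactSpace.mp
      (TopologicalSpace.NoetherianSpace.isCompact _) }

lemma exists_open_isLocImmersion [IsNoetherian X] [IsNoetherian Y] [IsLocallyNoetherian Z]
    (f₁ : X ⟶ Y) (f₂ : X ⟶ Z) (g : Y ⟶ Z) (hf₁ : LocImm.IsLocImmersion f₁)
    (hf₂ : LocImm.IsLocImmersion f₂) [IsSeparated g] [EssFT.LocallyEssFiniteType g]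
    (h : f₁ ≫ g = f₂) :
    ∃ U : Y.Opens, Set.range f₁ ⊆ (U : Set Y) ∧ LocImm.IsLocImmersion (U.ι ≫ g) := by
  subst h
  let P : Y → Prop := fun y => ∃ (U : Z.affineOpens) (V : Y.affineOpens) (_ : y ∈ V.1)
    (e : V.1 ≤ g ⁻¹ᵁ U.1), LocImm.IsLocHom (g.appLE U V e).hom
  let U₀ : Y.Opens := ⟨{y | P y}, isOpen_iff_forall_mem_open.mpr fun y ⟨U, V, hy, e, hl⟩ =>
    ⟨V.1, fun z hz => ⟨U, V, hz, e, hl⟩, V.1.2, hy⟩⟩
  have hU₀ : Set.range f₁ ⊆ U₀ := by
    rintro _ ⟨x, rfl⟩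
    have h1 := isIso_stalkMap f₁ hf₁.1 x
    have h2 : IsIso ((f₁ ≫ g).stalkMap x) := isIso_stalkMap (f₁ ≫ g) hf₂.1 x
    rw [Scheme.Hom.stalkMap_comp] at h2
    have : IsIso (g.stalkMap (f₁ x)) :=
      @IsIso.of_isIso_comp_right _ _ _ _ _ (g.stalkMap (f₁ x)) (f₁.stalkMap x) h1 h2
    exact exists_isLocHom_of_isIso_stalkMap g (f₁ x)
  let S : Set (Set Y) := {Z' ∈ irreducibleComponents Y | ∀ x, ¬ IsGenericPoint (f₁ x) Z'}
  have hSfin : S.Finite :=
    TopologicalSpace.NoetherianSpace.finite_irreducibleComponents.subset (Set.sep_subset _ _)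
  have hcl : IsClosed (⋃ Z' ∈ S, Z') :=
    hSfin.isClosed_biUnion fun Z' h => isClosed_of_mem_irreducibleComponents Z' h.1
  let U : Y.Opens := U₀ ⊓ ⟨(⋃ Z' ∈ S, Z')ᶜ, hcl.isOpen_compl⟩
  have hgen : StableUnderGeneralization (Set.range f₁) :=
    stableUnderGeneralization_range f₁ hf₁.1
  refine ⟨U, fun y hy => ⟨hU₀ hy, ?_⟩, ?_⟩
  · simp only [TopologicalSpace.Opens.coe_mk, Set.mem_compl_iff, Set.mem_iUnion₂, not_exists]
    rintro Z' ⟨hZ', hno⟩ hyZ'
    have hg : IsGenericPoint hZ'.1.genericPoint Z' :=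
      hZ'.1.isGenericPoint_genericPoint (isClosed_of_mem_irreducibleComponents Z' hZ')
    obtain ⟨x, hx⟩ := hgen (hg.specializes hyZ') hy
    exact hno x (hx ▸ hg)
  have : IsNoetherian (U : Scheme) := isNoetherian_opens U
  have hloc : LocImm.IsLocalizing (U.ι ≫ g) := isLocalizing_comp_ι g U fun y hy => hy.1
  refine ⟨hloc, (injective_iff_isSeparated_and_injOn _ hloc).mpr ⟨inferInstance, ?_⟩⟩
  rintro ⟨η, hη⟩ hmax ⟨η', hη'⟩ hmax' heq
  have key : ∀ (η : Y) (hη : η ∈ U), (∀ z : U.toScheme, z ⤳ ⟨η, hη⟩ → z = ⟨η, hη⟩) →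
      ∃ x, f₁ x = η := by
    intro η hη hmax
    have hZ : irreducibleComponent η ∈ irreducibleComponents Y :=
      irreducibleComponent_mem_irreducibleComponents η
    have hg : IsGenericPoint hZ.1.genericPoint (irreducibleComponent η) :=
      hZ.1.isGenericPoint_genericPoint (isClosed_of_mem_irreducibleComponents _ hZ)
    have hs : hZ.1.genericPoint ⤳ η := hg.specializes mem_irreducibleComponent
    have hζU : hZ.1.genericPoint ∈ U := hs.mem_open U.2 hη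
    have e1 : hZ.1.genericPoint = η :=
      congrArg Subtype.val (hmax ⟨_, hζU⟩ ((Topology.IsInducing.subtypeVal).specializes_iff.mp hs))
    rw [e1] at hg
    by_contra hc
    push Not at hc
    refine hη.2 (Set.mem_iUnion₂.mpr ⟨irreducibleComponent η, ⟨hZ, fun x hx => hc x ?_⟩,
      mem_irreducibleComponent⟩)
    exact hx.eq hg
  obtain ⟨x, rfl⟩ := key η hη hmax
  obtain ⟨x', rfl⟩ := key η' hη' hmax'
  have : x = x' := hf₂.2 (show (f₁ ≫ g) x = (f₁ ≫ g) x' from heq)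
  subst this; rfl

lemma exists_common_open {S : Scheme.{u}} [IsNoetherian X] [IsNoetherian Y] [IsNoetherian Z]
    [IsNoetherian S] (f₁ : X ⟶ Y) (f₂ : X ⟶ Z) (π₁ : Y ⟶ S) (π₂ : Z ⟶ S)
    (hf₁ : LocImm.IsLocImmersion f₁) (hf₂ : LocImm.IsLocImmersion f₂)
    [IsSeparated π₁] [IsSeparated π₂] [LocallyOfFiniteType π₁] [LocallyOfFiniteType π₂]
    (h : f₁ ≫ π₁ = f₂ ≫ π₂) :
    ∃ (W : Scheme.{u}) (k : X ⟶ W) (g₁ : W ⟶ Y) (g₂ : W ⟶ Z),
      LocImm.IsLocImmersion k ∧ IsOpenImmersion g₁ ∧ IsOpenImmersion g₂ ∧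
      g₁ ≫ π₁ = g₂ ≫ π₂ ∧ k ≫ g₁ = f₁ ∧ k ≫ g₂ = f₂ := by
  let l : X ⟶ pullback π₁ π₂ := pullback.lift f₁ f₂ h
  have hP : IsNoetherian (pullback π₁ π₂) :=
    { toIsLocallyNoetherian := inferInstance
      toCompactSpace := QuasiCompact.compactSpace_of_compactSpace (pullback.fst π₁ π₂) }
  let W₀ := l.image
  have hW₀ : IsNoetherian W₀ :=
    { toIsLocallyNoetherian := LocallyOfFiniteType.isLocallyNoetherian l.imageι
      toCompactSpace := QuasiCompact.compactSpace_of_compactSpace l.imageι }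
  let q₁ : W₀ ⟶ Y := l.imageι ≫ pullback.fst π₁ π₂
  let q₂ : W₀ ⟶ Z := l.imageι ≫ pullback.snd π₁ π₂
  have e₁ : l.toImage ≫ q₁ = f₁ := by
    rw [← Category.assoc, Scheme.Hom.toImage_imageι]; exact pullback.lift_fst _ _ _
  have e₂ : l.toImage ≫ q₂ = f₂ := by
    rw [← Category.assoc, Scheme.Hom.toImage_imageι]; exact pullback.lift_snd _ _ _
  have hk : LocImm.IsLocImmersion l.toImage :=
    isLocImmersion_of_comp_of_app_injective l.toImage q₁ (e₁.symm ▸ hf₁)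
      fun U _ => Scheme.Hom.app_injective l.toImage U
  have := locallyEssFiniteType_of_locallyOfFiniteType q₁
  have := locallyEssFiniteType_of_locallyOfFiniteType q₂
  obtain ⟨U₁, hU₁, hl₁⟩ := exists_open_isLocImmersion l.toImage f₁ q₁ hk hf₁ e₁
  obtain ⟨U₂, hU₂, hl₂⟩ := exists_open_isLocImmersion l.toImage f₂ q₂ hk hf₂ e₂
  have := isNoetherian_opens U₁
  have := isNoetherian_opens U₂
  have : IsOpenImmersion (U₁.ι ≫ q₁) := isOpenImmersion_of_locallyOfFiniteType _ hl₁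
  have : IsOpenImmersion (U₂.ι ≫ q₂) := isOpenImmersion_of_locallyOfFiniteType _ hl₂
  let W : W₀.Opens := U₁ ⊓ U₂
  let k : X ⟶ W := IsOpenImmersion.lift W.ι l.toImage (by
    rw [Scheme.Opens.range_ι]; exact Set.subset_inter hU₁ hU₂)
  have hkι : k ≫ W.ι = l.toImage := IsOpenImmersion.lift_fac _ _ _
  refine ⟨W, k, W.ι ≫ q₁, W.ι ≫ q₂, isLocImmersion_of_comp_openImmersion k W.ι (hkι.symm ▸ hk),
    ?_, ?_, by simp [q₁, q₂, pullback.condition], by rw [reassoc_of% hkι, e₁],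
    by rw [reassoc_of% hkι, e₂]⟩
  · rw [← W₀.homOfLE_ι (inf_le_left : W ≤ U₁), Category.assoc]; infer_instance
  · rw [← W₀.homOfLE_ι (inf_le_right : W ≤ U₂), Category.assoc]; infer_instance

end Groth.Agent.LocImm58
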