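import Groth.Agent.LocImm58.Descent

/-!
Extending morphisms defined on a localizing immersion to an open neighbourhood.
-/

set_option autoImplicit false
set_option backward.isDefEq.respectTransparency.types false
universe u

open CategoryTheory Limits AlgebraicGeometry

namespace Groth.Agent.LocImm58

variable {Z X Y S : Scheme.{u}}

lemma isNoetherian_of_finiteType (f : X ⟶ Y) [IsNoetherian Y] [LocallyOfFiniteType f]
    [QuasiCompact f] : IsNoetherian X :=
  { toIsLocallyNoetherian := LocallyOfFiniteType.isLocallyNoetherian f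
    toCompactSpace := QuasiCompact.compactSpace_of_compactSpace f }

lemma isCompact_of_isNoetherian [IsNoetherian X] (U : X.Opens) : IsCompact (U : Set X) :=
  TopologicalSpace.NoetherianSpace.isCompact _

/-- A morphism defined on a localizing immersion into `X`, with values in a separated scheme of finite
type, extends to an open neighbourhood. -/
theorem exists_extend [IsNoetherian Z] [IsNoetherian X] (j : Z ⟶ X) (hj : LocImm.IsLocImmersion j)
    (a : X ⟶ S) (b : Y ⟶ S) [IsSeparated b] [LocallyOfFiniteType b] [QuasiCompact b] (f : Z ⟶ Y)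
    (h : j ≫ a = f ≫ b) :
    ∃ (U : X.Opens) (e : Z ⟶ (U : Scheme.{u})) (s : (U : Scheme.{u}) ⟶ Y),
      e ≫ U.ι = j ∧ s ≫ b = U.ι ≫ a ∧ e ≫ s = f := by
  let l : Z ⟶ pullback a b := pullback.lift j f h
  have := isNoetherian_of_finiteType (pullback.fst a b)
  let W₀ := l.image
  let q₁ : W₀ ⟶ X := l.imageι ≫ pullback.fst a b
  have := isNoetherian_of_finiteType q₁
  have e₁ : l.toImage ≫ q₁ = j := by
    rw [← Category.assoc, Scheme.Hom.toImage_imageι]; exact pullback.lift_fst _ _ _
  have hk : LocImm.IsLocImmersion l.toImage :=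
    isLocImmersion_of_comp_of_app_injective l.toImage q₁ (e₁.symm ▸ hj)
      fun U _ => Scheme.Hom.app_injective l.toImage U
  have := locallyEssFiniteType_of_locallyOfFiniteType q₁
  obtain ⟨U₁, hU₁, hl₁⟩ := exists_open_isLocImmersion l.toImage j q₁ hk hj e₁
  have := isNoetherian_opens U₁
  let o := U₁.ι ≫ q₁
  have : IsOpenImmersion o := isOpenImmersion_of_locallyOfFiniteType _ hl₁
  let z : Z ⟶ U₁ := IsOpenImmersion.lift U₁.ι l.toImage (by rwa [Scheme.Opens.range_ι])
  have hz : z ≫ U₁.ι = l.toImage := IsOpenImmersion.lift_fac _ _ _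
  refine ⟨o.opensRange, z ≫ o.isoOpensRange.hom,
    o.isoOpensRange.inv ≫ U₁.ι ≫ l.imageι ≫ pullback.snd a b, ?_, ?_, ?_⟩
  · rw [Category.assoc, Scheme.Hom.isoOpensRange_hom_ι, ← Category.assoc, hz, e₁]
  · simp only [Category.assoc, ← pullback.condition]
    rw [← Scheme.Hom.isoOpensRange_inv_comp o]
    simp only [o, q₁, Category.assoc]
  · rw [Category.assoc, Iso.hom_inv_id_assoc, reassoc_of% hz, Scheme.Hom.toImage_imageι_assoc,
      pullback.lift_snd]

/-- An open neighbourhood, inside a given one, of the image of a localizing immersion in which that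
image is dense. -/
theorem exists_open_subset_closure [IsNoetherian X] (f : Z ⟶ X) (hf : LocImm.IsLocImmersion f)
    (W₀ : X.Opens) (h : Set.range f ⊆ (W₀ : Set X)) :
    ∃ W : X.Opens, W ≤ W₀ ∧ Set.range f ⊆ (W : Set X) ∧ (W : Set X) ⊆ closure (Set.range f) := by
  let S : Set (Set X) := {Z' ∈ irreducibleComponents X | ∀ x, ¬ IsGenericPoint (f x) Z'}
  have hSfin : S.Finite :=
    TopologicalSpace.NoetherianSpace.finite_irreducibleComponents.subset (Set.sep_subset _ _)
  have hcl : IsClosed (⋃ Z' ∈ S, Z') :=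
    hSfin.isClosed_biUnion fun Z' h => isClosed_of_mem_irreducibleComponents Z' h.1
  have hgen : StableUnderGeneralization (Set.range f) := stableUnderGeneralization_range f hf.1
  refine ⟨W₀ ⊓ ⟨(⋃ Z' ∈ S, Z')ᶜ, hcl.isOpen_compl⟩, inf_le_left, fun y hy => ⟨h hy, ?_⟩, fun y hy => ?_⟩
  · simp only [TopologicalSpace.Opens.coe_mk, Set.mem_compl_iff, Set.mem_iUnion₂, not_exists]
    rintro Z' ⟨hZ', hno⟩ hyZ'
    have hg : IsGenericPoint hZ'.1.genericPoint Z' :=
      hZ'.1.isGenericPoint_genericPoint (isClosed_of_mem_irreducibleComponents Z' hZ')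
    obtain ⟨x, hx⟩ := hgen (hg.specializes hyZ') hy
    exact hno x (hx ▸ hg)
  · have hZ : irreducibleComponent y ∈ irreducibleComponents X :=
      irreducibleComponent_mem_irreducibleComponents y
    by_cases hc : ∃ x, IsGenericPoint (f x) (irreducibleComponent y)
    · obtain ⟨x, hx⟩ := hc
      exact closure_mono (Set.singleton_subset_iff.2 (Set.mem_range_self x))
        (show y ∈ closure ({f x} : Set X) by rw [hx]; exact mem_irreducibleComponent)
    · exact absurd (Set.mem_iUnion₂.mpr ⟨irreducibleComponent y,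
        ⟨hZ, not_exists.1 hc⟩, mem_irreducibleComponent⟩) hy.2

end Groth.Agent.LocImm58
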