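import Groth.Agent.LocImm58.Glue

set_option autoImplicit false
universe u

open CategoryTheory Limits AlgebraicGeometry

namespace Groth.Agent.LocImm58

variable {X S : Scheme.{u}}

/-- The property of an open of `X`: its restriction of `f` factors. -/
def Fac (f : X ⟶ S) (W : X.Opens) : Prop :=
  ∃ (Y : Scheme.{u}) (k : (W : Scheme.{u}) ⟶ Y) (p : Y ⟶ S), IsNoetherian Y ∧
    LocImm.IsLocImmersion k ∧ IsSeparated p ∧ LocallyOfFiniteType p ∧ QuasiCompact p ∧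
    k ≫ p = W.ι ≫ f

lemma fac_bot [IsNoetherian S] (f : X ⟶ S) : Fac f ⊥ :=
  ⟨S, (⊥ : X.Opens).ι ≫ f, 𝟙 S, inferInstance,
    ⟨fun x => x.2.elim, fun x => x.2.elim⟩, inferInstance, inferInstance, inferInstance, by simp⟩

lemma fac_sup [IsNoetherian X] [IsNoetherian S] (f : X ⟶ S) [IsSeparated f] {U₁ U₂ : X.Opens}
    (h₁ : Fac f U₁) (h₂ : Fac f U₂) : Fac f (U₁ ⊔ U₂) := by
  obtain ⟨Y₁, k₁, p₁, _, hk₁, _, _, _, e₁⟩ := h₁
  obtain ⟨Y₂, k₂, p₂, _, hk₂, _, _, _, e₂⟩ := h₂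
  have := isNoetherian_opens U₁
  have := isNoetherian_opens U₂
  have := isNoetherian_opens (U₁ ⊔ U₂)
  let W := U₁ ⊔ U₂
  have := isNoetherian_opens (W.ι ⁻¹ᵁ U₁)
  have := isNoetherian_opens (W.ι ⁻¹ᵁ U₂)
  let r₁ := IsOpenImmersion.lift U₁.ι ((W.ι ⁻¹ᵁ U₁).ι ≫ W.ι) (by
    rw [Scheme.Opens.range_ι]; rintro _ ⟨y, rfl⟩; exact y.2)
  have hr₁ : r₁ ≫ U₁.ι = (W.ι ⁻¹ᵁ U₁).ι ≫ W.ι := IsOpenImmersion.lift_fac _ _ _
  let r₂ := IsOpenImmersion.lift U₂.ι ((W.ι ⁻¹ᵁ U₂).ι ≫ W.ι) (by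
    rw [Scheme.Opens.range_ι]; rintro _ ⟨y, rfl⟩; exact y.2)
  have hr₂ : r₂ ≫ U₂.ι = (W.ι ⁻¹ᵁ U₂).ι ≫ W.ι := IsOpenImmersion.lift_fac _ _ _
  have : IsOpenImmersion (r₁ ≫ U₁.ι) := by rw [hr₁]; infer_instance
  have : IsOpenImmersion r₁ := IsOpenImmersion.of_comp r₁ U₁.ι
  have : IsOpenImmersion (r₂ ≫ U₂.ι) := by rw [hr₂]; infer_instance
  have : IsOpenImmersion r₂ := IsOpenImmersion.of_comp r₂ U₂.ι
  exact exists_factorization_of_two_opens (W.ι ≫ f) (W.ι ⁻¹ᵁ U₁) (W.ι ⁻¹ᵁ U₂)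
    (top_le_iff.mp fun y _ => y.2) Y₁ Y₂ (r₁ ≫ k₁) (r₂ ≫ k₂) p₁ p₂
    (isLocImmersion_comp r₁ k₁ (isLocImmersion_of_isOpenImmersion _) hk₁)
    (isLocImmersion_comp r₂ k₂ (isLocImmersion_of_isOpenImmersion _) hk₂)
    (by rw [Category.assoc, e₁, reassoc_of% hr₁]) (by rw [Category.assoc, e₂, reassoc_of% hr₂])

lemma exists_fac_nhds [IsNoetherian X] [IsNoetherian S] (f : X ⟶ S)
    [EssFT.LocallyEssFiniteType f] (x : X) : ∃ V : X.Opens, x ∈ V ∧ Fac f V := by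
  obtain ⟨U, V, hU, hV, hxV, e, -, hess⟩ := exists_essFiniteType_chart f x (O := ⊤) trivial
  refine ⟨V, hxV, ?_⟩
  let φ := f.appLE U V e
  let : Algebra Γ(S, U) Γ(X, V) := φ.hom.toAlgebra
  have : Algebra.EssFiniteType Γ(S, U) Γ(X, V) := hess
  have : IsNoetherianRing Γ(S, U) := IsLocallyNoetherian.component_noetherian ⟨U, hU⟩
  let B₀ := Algebra.EssFiniteType.subalgebra Γ(S, U) Γ(X, V)
  let M := Algebra.EssFiniteType.submonoid Γ(S, U) Γ(X, V)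
  let α : Γ(S, U) ⟶ CommRingCat.of B₀ := CommRingCat.ofHom (algebraMap Γ(S, U) B₀)
  let β : CommRingCat.of B₀ ⟶ Γ(X, V) := CommRingCat.ofHom (algebraMap B₀ Γ(X, V))
  have hαβ : α ≫ β = φ := by ext a; rfl
  have hft : α.hom.FiniteType :=
    RingHom.finiteType_algebraMap.mpr (inferInstanceAs (Algebra.FiniteType Γ(S, U) B₀))
  have : IsNoetherianRing B₀ := Algebra.FiniteType.isNoetherianRing Γ(S, U) B₀
  have : LocallyOfFiniteType (Spec.map α) :=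
    (HasRingHomProperty.Spec_iff (P := @LocallyOfFiniteType)).mpr hft
  have := isNoetherian_opens V
  refine ⟨Spec (CommRingCat.of B₀), hV.isoSpec.hom ≫ Spec.map β, Spec.map α ≫ hU.fromSpec,
    inferInstance, ?_, inferInstance, inferInstance, inferInstance, ?_⟩
  · have : IsNoetherianRing Γ(X, V) := IsLocallyNoetherian.component_noetherian ⟨V, hV⟩
    exact isLocImmersion_comp _ _ (isLocImmersion_of_isOpenImmersion _)
      (isLocImmersion_SpecMap β (isLocHom_algebraMap M))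
  · rw [Category.assoc, ← Spec.map_comp_assoc, hαβ, IsAffineOpen.SpecMap_appLE_fromSpec f hU hV e,
      hV.isoSpec_hom_fromSpec_assoc]

theorem exists_factorization [IsNoetherian X] [IsNoetherian S] (f : X ⟶ S) [IsSeparated f]
    [EssFT.EssFiniteType f] :
    ∃ (Y : Scheme.{u}) (k : X ⟶ Y) (p : Y ⟶ S), IsNoetherian Y ∧ LocImm.IsLocImmersion k ∧
      IsSeparated p ∧ LocallyOfFiniteType p ∧ QuasiCompact p ∧ k ≫ p = f := by
  choose V hxV hV using exists_fac_nhds f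
  obtain ⟨t, ht⟩ := isCompact_univ.elim_finite_subcover (fun x => (V x : Set X))
    (fun x => (V x).2) (fun x _ => Set.mem_iUnion.mpr ⟨x, hxV x⟩)
  have key : Fac f (t.sup V) := Finset.sup_induction (fac_bot f) (fun _ h₁ _ h₂ => fac_sup f h₁ h₂)
    fun x _ => hV x
  have htop : t.sup V = ⊤ := top_le_iff.mp fun x _ => by
    obtain ⟨y, hy, hxy⟩ := Set.mem_iUnion₂.mp (ht (Set.mem_univ x))
    exact (Finset.le_sup hy : V y ≤ t.sup V) hxy
  obtain ⟨Y, k, p, hY, hk, hsep, hft, hqc, e⟩ := htop ▸ key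
  have := isNoetherian_opens (⊤ : X.Opens)
  refine ⟨Y, X.topIso.inv ≫ k, p, hY,
    isLocImmersion_comp _ _ (isLocImmersion_of_isOpenImmersion _) hk, hsep, hft, hqc, ?_⟩
  rw [Category.assoc, e, ← Scheme.topIso_hom, Iso.inv_hom_id_assoc]

end Groth.Agent.LocImm58
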