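import Groth.Agent.LocImm58.GlueAux
import Mathlib.AlgebraicGeometry.Morphisms.Immersion

set_option autoImplicit false
universe u

open CategoryTheory Limits AlgebraicGeometry

namespace Groth.Agent.LocImm58

variable {S : Scheme.{u}}

/-- The image of a local ring in a domain. -/
lemma exists_domain_factor {A K : CommRingCat.{u}} [IsLocalRing A] [IsDomain K] (χ : A ⟶ K) :
    ∃ (R : CommRingCat.{u}) (π : A ⟶ R) (ι : R ⟶ K) (_ : IsDomain R) (_ : IsLocalRing R)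
      (_ : IsLocalHom π.hom), Function.Injective ι.hom ∧ π ≫ ι = χ := by
  have : (RingHom.ker χ.hom).IsPrime := RingHom.ker_isPrime _
  exact ⟨.of (A ⧸ RingHom.ker χ.hom), CommRingCat.ofHom (Ideal.Quotient.mk _),
    CommRingCat.ofHom (RingHom.kerLift χ.hom), Ideal.Quotient.isDomain _,
    IsLocalRing.of_surjective' _ Ideal.Quotient.mk_surjective,
    IsLocalHom.of_surjective _ Ideal.Quotient.mk_surjective, RingHom.kerLift_injective χ.hom,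
    by ext a; rfl⟩

/-- A point of `B` cannot project to both localizing immersions. -/
lemma mem_range_of_specializes {X Y₁ Y₂ : Scheme.{u}} [IsNoetherian X] (f : X ⟶ S) [IsSeparated f]
    {U₁ U₂ : X.Opens} (k₁ : (U₁ : Scheme.{u}) ⟶ Y₁) (k₂ : (U₂ : Scheme.{u}) ⟶ Y₂)
    (hk₁ : LocImm.IsLocImmersion k₁) (hk₂ : LocImm.IsLocImmersion k₂)
    (p₁ : Y₁ ⟶ S) (p₂ : Y₂ ⟶ S) (h₁ : k₁ ≫ p₁ = U₁.ι ≫ f) (h₂ : k₂ ≫ p₂ = U₂.ι ≫ f)
    (ψ : ((U₁ ⊓ U₂ : X.Opens) : Scheme.{u}) ⟶ pullback p₁ p₂)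
    (hψ₁ : ψ ≫ pullback.fst p₁ p₂ = X.homOfLE inf_le_left ≫ k₁)
    (hψ₂ : ψ ≫ pullback.snd p₁ p₂ = X.homOfLE inf_le_right ≫ k₂)
    {x : ((U₁ ⊓ U₂ : X.Opens) : Scheme.{u})} {z : ↑(pullback p₁ p₂)} (hxz : ψ x ⤳ z)
    (hz₁ : pullback.fst p₁ p₂ z ∈ Set.range k₁) (hz₂ : pullback.snd p₁ p₂ z ∈ Set.range k₂) :
    z ∈ Set.range ψ := by
  obtain ⟨u₁, hu₁⟩ := hz₁
  obtain ⟨u₂, hu₂⟩ := hz₂
  have := isNoetherian_opens U₁
  have := isNoetherian_opens U₂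
  have : Mono k₁ := ((isLocImmersion_iff_mono k₁).mp hk₁).2
  have : Mono k₂ := ((isLocImmersion_iff_mono k₂).mp hk₂).2
  have := isIso_stalkMap k₁ hk₁.1 u₁
  have := isIso_stalkMap k₂ hk₂.1 u₂
  let P := pullback p₁ p₂
  let K : CommRingCat.{u} := ((U₁ ⊓ U₂ : X.Opens) : Scheme.{u}).residueField x
  have : IsDomain K :=
    inferInstanceAs (IsDomain (((U₁ ⊓ U₂ : X.Opens) : Scheme.{u}).residueField x))
  let χ : P.presheaf.stalk z ⟶ K := P.presheaf.stalkSpecializes hxz ≫ ψ.stalkMap x ≫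
    ((U₁ ⊓ U₂ : X.Opens) : Scheme.{u}).residue x
  obtain ⟨R, π, ι, _, _, _, hι, e⟩ := exists_domain_factor χ
  have : IsDominant (Spec.map ι) := ⟨(PrimeSpectrum.denseRange_comap_iff_ker_le_nilRadical ι.hom).mpr
    (((RingHom.injective_iff_ker_eq_bot ι.hom).mp hι).le.trans bot_le)⟩
  let q : Spec R ⟶ P := Spec.map π ≫ P.fromSpecStalk z
  have hqz : q (IsLocalRing.closedPoint R) = z :=
    SchLoc58.specMap_fromSpecStalk_closedPoint π
  let d : Spec K ⟶ ((U₁ ⊓ U₂ : X.Opens) : Scheme.{u}) :=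
    ((U₁ ⊓ U₂ : X.Opens) : Scheme.{u}).fromSpecResidueField x
  have hgen : Spec.map ι ≫ q = d ≫ ψ := by
    simp only [q, ← Spec.map_comp_assoc, e, χ, d, Scheme.fromSpecResidueField]
    simp only [Spec.map_comp, Category.assoc, Scheme.SpecMap_stalkSpecializes_fromSpecStalk,
      Scheme.SpecMap_stalkMap_fromSpecStalk]
  obtain ⟨t₁, ht₁, htu₁⟩ := exists_lift_of_isIso_stalkMap k₁ u₁ (q ≫ pullback.fst p₁ p₂)
    ((congrArg (pullback.fst p₁ p₂) hqz).trans hu₁.symm)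
  obtain ⟨t₂, ht₂, htu₂⟩ := exists_lift_of_isIso_stalkMap k₂ u₂ (q ≫ pullback.snd p₁ p₂)
    ((congrArg (pullback.snd p₁ p₂) hqz).trans hu₂.symm)
  have g₁ : Spec.map ι ≫ t₁ = d ≫ X.homOfLE inf_le_left := by
    rw [← cancel_mono k₁, Category.assoc, ht₁, reassoc_of% hgen, hψ₁, Category.assoc]
  have g₂ : Spec.map ι ≫ t₂ = d ≫ X.homOfLE inf_le_right := by
    rw [← cancel_mono k₂, Category.assoc, ht₂, reassoc_of% hgen, hψ₂, Category.assoc]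
  have hX : t₁ ≫ U₁.ι = t₂ ≫ U₂.ι := by
    refine ext_of_isDominant_of_isSeparated f ?_ (Spec.map ι) ?_
    · rw [Category.assoc, Category.assoc, ← h₁, ← h₂, reassoc_of% ht₁, reassoc_of% ht₂,
        pullback.condition]
    · rw [reassoc_of% g₁, reassoc_of% g₂, X.homOfLE_ι, X.homOfLE_ι]
  have hu : U₁.ι u₁ = U₂.ι u₂ := by
    rw [← htu₁, ← htu₂]
    exact congr($hX (IsLocalRing.closedPoint R))
  have hmem : (t₁ ≫ U₁.ι) (IsLocalRing.closedPoint R) ∈ Set.range (U₁ ⊓ U₂ : X.Opens).ι := by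
    rw [Scheme.Opens.range_ι]
    refine (congrArg (· ∈ ((U₁ ⊓ U₂ : X.Opens) : Set X)) (congrArg U₁.ι htu₁)).mpr ?_
    exact ⟨u₁.2, show U₁.ι u₁ ∈ U₂ from hu ▸ u₂.2⟩
  obtain ⟨t, ht⟩ := exists_factor_of_closedPoint_mem (t₁ ≫ U₁.ι) _ hmem
  have hqt : q = t ≫ ψ := by
    apply pullback.hom_ext
    · rw [← ht₁, Category.assoc, hψ₁, ← Category.assoc t]
      congr 1
      rw [← cancel_mono U₁.ι, ← ht, Category.assoc, X.homOfLE_ι]
    · rw [← ht₂, Category.assoc, hψ₂, ← Category.assoc t]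
      congr 1
      rw [← cancel_mono U₂.ι, ← hX, ← ht, Category.assoc, X.homOfLE_ι]
  exact ⟨t (IsLocalRing.closedPoint R), (congr($hqt (IsLocalRing.closedPoint R))).symm.trans hqz⟩

theorem exists_factorization_of_two_opens {X : Scheme.{u}} [IsNoetherian X] [IsNoetherian S]
    (f : X ⟶ S) [IsSeparated f] (U₁ U₂ : X.Opens) (hU : U₁ ⊔ U₂ = ⊤) (Y₁ Y₂ : Scheme.{u})
    [IsNoetherian Y₁] [IsNoetherian Y₂]
    (k₁ : (U₁ : Scheme.{u}) ⟶ Y₁) (k₂ : (U₂ : Scheme.{u}) ⟶ Y₂) (p₁ : Y₁ ⟶ S) (p₂ : Y₂ ⟶ S)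
    (hk₁ : LocImm.IsLocImmersion k₁) (hk₂ : LocImm.IsLocImmersion k₂)
    [IsSeparated p₁] [IsSeparated p₂] [LocallyOfFiniteType p₁] [LocallyOfFiniteType p₂]
    (h₁ : k₁ ≫ p₁ = U₁.ι ≫ f) (h₂ : k₂ ≫ p₂ = U₂.ι ≫ f) :
    ∃ (Y : Scheme.{u}) (k : X ⟶ Y) (p : Y ⟶ S), IsNoetherian Y ∧ LocImm.IsLocImmersion k ∧
      IsSeparated p ∧ LocallyOfFiniteType p ∧ QuasiCompact p ∧ k ≫ p = f := by
  have := isNoetherian_opens U₁
  have := isNoetherian_opens U₂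
  have := isNoetherian_opens (U₁ ⊓ U₂)
  let j₁ := X.homOfLE (inf_le_left : U₁ ⊓ U₂ ≤ U₁)
  let j₂ := X.homOfLE (inf_le_right : U₁ ⊓ U₂ ≤ U₂)
  have hf₁ := isLocImmersion_comp j₁ k₁ (isLocImmersion_of_isOpenImmersion j₁) hk₁
  have hf₂ := isLocImmersion_comp j₂ k₂ (isLocImmersion_of_isOpenImmersion j₂) hk₂
  obtain ⟨W₀, k₀, g₁, g₂, hk₀, hg₁, hg₂, hg, e₁, e₂⟩ := exists_common_open (j₁ ≫ k₁) (j₂ ≫ k₂) p₁ p₂
    hf₁ hf₂ (by rw [Category.assoc, Category.assoc, h₁, h₂, X.homOfLE_ι_assoc, X.homOfLE_ι_assoc])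
  have : IsNoetherian W₀ :=
    { toIsLocallyNoetherian := isLocallyNoetherian_of_isOpenImmersion g₁
      toCompactSpace := by
        have := g₁.isOpenEmbedding.isInducing.noetherianSpace
        infer_instance }
  obtain ⟨O, hO, hOeq⟩ := (isEmbedding k₁ hk₁).isInducing.isOpen_iff.mp j₁.opensRange.2
  let Bad : Set (Set W₀) := {Z' ∈ irreducibleComponents W₀ | ∀ x, ¬ IsGenericPoint (k₀ x) Z'}
  have hBfin : Bad.Finite :=
    TopologicalSpace.NoetherianSpace.finite_irreducibleComponents.subset (Set.sep_subset _ _)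
  have hBcl : IsClosed (⋃ Z' ∈ Bad, Z') :=
    hBfin.isClosed_biUnion fun Z' h => isClosed_of_mem_irreducibleComponents Z' h.1
  let W : W₀.Opens := g₁ ⁻¹ᵁ ⟨O, hO⟩ ⊓ ⟨(⋃ Z' ∈ Bad, Z')ᶜ, hBcl.isOpen_compl⟩
  have hgen₀ := stableUnderGeneralization_range k₀ hk₀.1
  have hk₀W : Set.range k₀ ⊆ W := by
    rintro _ ⟨x, rfl⟩
    refine ⟨?_, ?_⟩
    · show g₁ (k₀ x) ∈ O
      rw [← Scheme.Hom.comp_apply, e₁]
      exact hOeq.ge ⟨x, rfl⟩
    · simp only [TopologicalSpace.Opens.coe_mk, Set.mem_compl_iff, Set.mem_iUnion₂, not_exists]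
      rintro Z' ⟨hZ', hno⟩ hxZ'
      have hgp : IsGenericPoint hZ'.1.genericPoint Z' :=
        hZ'.1.isGenericPoint_genericPoint (isClosed_of_mem_irreducibleComponents Z' hZ')
      obtain ⟨y, hy⟩ := hgen₀ (hgp.specializes hxZ') ⟨x, rfl⟩
      exact hno y (hy ▸ hgp)
  have hdense : ∀ w ∈ W, ∃ x, k₀ x ⤳ w := by
    intro w hw
    by_contra hc
    push Not at hc
    refine hw.2 (Set.mem_iUnion₂.mpr ⟨irreducibleComponent w,
      ⟨irreducibleComponent_mem_irreducibleComponents w, fun x hx =>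
        hc x (hx.specializes mem_irreducibleComponent)⟩, mem_irreducibleComponent⟩)
  let P := pullback p₁ p₂
  have : IsNoetherian P :=
    { toIsLocallyNoetherian := inferInstance
      toCompactSpace := QuasiCompact.compactSpace_of_compactSpace (pullback.fst p₁ p₂) }
  let φ : (W : Scheme.{u}) ⟶ P :=
    pullback.lift (W.ι ≫ g₁) (W.ι ≫ g₂) (by rw [Category.assoc, Category.assoc, hg])
  have : IsImmersion φ := by
    have : IsImmersion (φ ≫ pullback.fst p₁ p₂) := by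
      rw [pullback.lift_fst]; infer_instance
    exact IsImmersion.of_comp φ (pullback.fst p₁ p₂)
  let k' : ((U₁ ⊓ U₂ : X.Opens) : Scheme.{u}) ⟶ W :=
    IsOpenImmersion.lift W.ι k₀ (by rwa [Scheme.Opens.range_ι])
  have hk' : k' ≫ W.ι = k₀ := IsOpenImmersion.lift_fac _ _ _
  let ψ := k' ≫ φ
  have hψ₁ : ψ ≫ pullback.fst p₁ p₂ = j₁ ≫ k₁ := by
    rw [Category.assoc, pullback.lift_fst, reassoc_of% hk', e₁]
  have hψ₂ : ψ ≫ pullback.snd p₁ p₂ = j₂ ≫ k₂ := by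
    rw [Category.assoc, pullback.lift_snd, reassoc_of% hk', e₂]
  let B : Set P := closure (Set.range φ) \ Set.range φ
  have hB : IsClosed B := by
    have h := φ.isLocallyClosed_range
    rw [isLocallyClosed_iff_isOpen_coborder] at h
    have : B = (coborder (Set.range φ))ᶜ := by simp [B, coborder]
    rw [this]
    exact h.isClosed_compl
  have key : ∀ z ∈ B, pullback.fst p₁ p₂ z ∈ Set.range k₁ →
      pullback.snd p₁ p₂ z ∉ Set.range k₂ := by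
    intro z hz hz₁ hz₂
    obtain ⟨T, hTfin, hTcl, hTirr, hT⟩ :=
      TopologicalSpace.NoetherianSpace.exists_finite_set_isClosed_irreducible
        (α := ((U₁ ⊓ U₂ : X.Opens) : Scheme.{u})) isClosed_univ
    have hsub : closure (Set.range φ) ⊆ ⋃ Z ∈ T, closure (ψ '' Z) := by
      refine closure_minimal ?_ (hTfin.isClosed_biUnion fun _ _ => isClosed_closure)
      rintro _ ⟨w, rfl⟩
      obtain ⟨x, hx⟩ := hdense _ w.2
      have hx' : k' x ⤳ w := by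
        refine (Scheme.Hom.isOpenEmbedding W.ι).isInducing.specializes_iff.mp ?_
        rwa [← Scheme.Hom.comp_apply, hk']
      obtain ⟨Z, hZ, hxZ⟩ : x ∈ ⋃₀ T := hT ▸ Set.mem_univ x
      refine Set.mem_iUnion₂.mpr ⟨Z, hZ, ?_⟩
      exact (hx'.map φ.continuous).mem_closed isClosed_closure (subset_closure ⟨x, hxZ, rfl⟩)
    obtain ⟨Z, hZ, hzZ⟩ := Set.mem_iUnion₂.mp (hsub hz.1)
    have hgp := ((hTirr Z hZ).isGenericPoint_genericPoint (hTcl Z hZ)).image ψ.continuous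
    obtain ⟨x, hx⟩ := mem_range_of_specializes f k₁ k₂ hk₁ hk₂ p₁ p₂ h₁ h₂ ψ hψ₁ hψ₂
      (hgp.specializes hzZ) hz₁ hz₂
    exact hz.2 ⟨k' x, hx⟩
  have hR₁ := stableUnderGeneralization_range k₁ hk₁.1
  have hR₂ := stableUnderGeneralization_range k₂ hk₂.1
  obtain ⟨O₂, hO₂, hkO₂, hBO₂⟩ := exists_open_of_stableUnderGeneralization
    (pullback.snd p₁ p₂).continuous hB (A := pullback.fst p₁ p₂ ⁻¹' Set.range k₁)
    (fun a b hab ha => hR₁ (hab.map (pullback.fst p₁ p₂).continuous) ha) hR₂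
    (fun z hz hzA => key z hz hzA)
  obtain ⟨O₁, hO₁, hkO₁, hBO₁⟩ := exists_open_of_stableUnderGeneralization
    (pullback.fst p₁ p₂).continuous hB (A := pullback.snd p₁ p₂ ⁻¹' O₂)
    (hO₂.preimage (pullback.snd p₁ p₂).continuous).stableUnderGeneralization hR₁
    (fun z hz hzA hz₁ => hBO₂ z hz hz₁ hzA)
  let Y₁' : Y₁.Opens := ⟨O₁, hO₁⟩
  let Y₂' : Y₂.Opens := ⟨O₂, hO₂⟩
  let W' : W₀.Opens := g₁ ⁻¹ᵁ Y₁' ⊓ g₂ ⁻¹ᵁ Y₂' ⊓ W
  let a₁ : (W' : Scheme.{u}) ⟶ Y₁' := IsOpenImmersion.lift Y₁'.ι (W'.ι ≫ g₁) (by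
    rw [Scheme.Opens.range_ι]; rintro _ ⟨w, rfl⟩; exact w.2.1.1)
  have ha₁ : a₁ ≫ Y₁'.ι = W'.ι ≫ g₁ := IsOpenImmersion.lift_fac _ _ _
  let a₂ : (W' : Scheme.{u}) ⟶ Y₂' := IsOpenImmersion.lift Y₂'.ι (W'.ι ≫ g₂) (by
    rw [Scheme.Opens.range_ι]; rintro _ ⟨w, rfl⟩; exact w.2.1.2)
  have ha₂ : a₂ ≫ Y₂'.ι = W'.ι ≫ g₂ := IsOpenImmersion.lift_fac _ _ _
  have : IsOpenImmersion (a₁ ≫ Y₁'.ι) := by rw [ha₁]; infer_instance
  have : IsOpenImmersion a₁ := IsOpenImmersion.of_comp a₁ Y₁'.ι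
  have : IsOpenImmersion (a₂ ≫ Y₂'.ι) := by rw [ha₂]; infer_instance
  have : IsOpenImmersion a₂ := IsOpenImmersion.of_comp a₂ Y₂'.ι
  have hp : a₁ ≫ Y₁'.ι ≫ p₁ = a₂ ≫ Y₂'.ι ≫ p₂ := by
    rw [reassoc_of% ha₁, reassoc_of% ha₂, hg]
  let Y := pushout a₁ a₂
  let p : Y ⟶ S := pushout.desc (Y₁'.ι ≫ p₁) (Y₂'.ι ≫ p₂) hp
  let 𝒰 := Scheme.IsLocallyDirected.openCover (span a₁ a₂)
  have := isNoetherian_opens W'
  have := isNoetherian_opens Y₁'
  have := isNoetherian_opens Y₂'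
  have hlft : LocallyOfFiniteType p := by
    have : IsZariskiLocalAtSource (@LocallyOfFiniteType.{u}) :=
      @HasRingHomProperty.instIsZariskiLocalAtSource _ _ _
    refine (IsZariskiLocalAtSource.iff_of_openCover (P := @LocallyOfFiniteType.{u}) 𝒰).mpr ?_
    intro i
    rcases i with _ | ⟨⟨⟩⟩
    · show LocallyOfFiniteType (colimit.ι (span a₁ a₂) none ≫ p)
      rw [← colimit.w (span a₁ a₂) WalkingSpan.Hom.fst]
      show LocallyOfFiniteType ((a₁ ≫ pushout.inl a₁ a₂) ≫ p)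
      rw [Category.assoc, pushout.inl_desc]; infer_instance
    · show LocallyOfFiniteType (pushout.inl a₁ a₂ ≫ p)
      rw [pushout.inl_desc]; infer_instance
    · show LocallyOfFiniteType (pushout.inr a₁ a₂ ≫ p)
      rw [pushout.inr_desc]; infer_instance
  have hY : IsNoetherian Y :=
    { toIsLocallyNoetherian := LocallyOfFiniteType.isLocallyNoetherian p
      toCompactSpace := ⟨by
        have : Set.univ = Set.range (pushout.inl a₁ a₂) ∪ Set.range (pushout.inr a₁ a₂) :=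
          (Set.eq_univ_of_forall fun y => mem_range_inl_or_inr a₁ a₂ y).symm
        rw [this]
        exact (isCompact_range (pushout.inl a₁ a₂).continuous).union
          (isCompact_range (pushout.inr a₁ a₂).continuous)⟩ }
  have hsep : IsSeparated p := by
    refine isSeparated_pushout_desc a₁ a₂ _ _ hp fun R K _ _ _ _ _ _ w t₁ t₂ ht₁ ht₂ ht => ?_
    let q : Spec (.of R) ⟶ P := pullback.lift (t₁ ≫ Y₁'.ι) (t₂ ≫ Y₂'.ι)
      (by rw [Category.assoc, Category.assoc, ht])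
    let v := IsOpenImmersion.lift W.ι (w ≫ W'.ι) (by
      rw [Scheme.Opens.range_ι]; rintro _ ⟨y, rfl⟩; exact (w y).2.2)
    have hv : v ≫ W.ι = w ≫ W'.ι := IsOpenImmersion.lift_fac _ _ _
    have hgen : Spec.map (CommRingCat.ofHom (algebraMap R K)) ≫ q = v ≫ φ := by
      apply pullback.hom_ext
      · simp only [q, φ, Category.assoc, pullback.lift_fst]
        rw [reassoc_of% ht₁, ha₁, reassoc_of% hv]
      · simp only [q, φ, Category.assoc, pullback.lift_snd]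
        rw [reassoc_of% ht₂, ha₂, reassoc_of% hv]
    let z := q (IsLocalRing.closedPoint R)
    let η : Spec (.of K) := IsLocalRing.closedPoint K
    have hcl : z ∈ closure (Set.range φ) := by
      have h0 := (IsLocalRing.specializes_closedPoint
        (Spec.map (CommRingCat.ofHom (algebraMap R K)) η)).map q.continuous
      refine h0.mem_closed isClosed_closure (subset_closure ⟨v η, ?_⟩)
      exact congr($hgen η).symm
    have eq₁ : q ≫ pullback.fst p₁ p₂ = t₁ ≫ Y₁'.ι := pullback.lift_fst _ _ _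
    have eq₂ : q ≫ pullback.snd p₁ p₂ = t₂ ≫ Y₂'.ι := pullback.lift_snd _ _ _
    have hz₁ : pullback.fst p₁ p₂ z ∈ O₁ := by
      refine (congrArg (· ∈ O₁) congr($eq₁ (IsLocalRing.closedPoint R))).mpr ?_
      exact (t₁ (IsLocalRing.closedPoint R)).2
    have hz₂ : pullback.snd p₁ p₂ z ∈ O₂ := by
      refine (congrArg (· ∈ O₂) congr($eq₂ (IsLocalRing.closedPoint R))).mpr ?_
      exact (t₂ (IsLocalRing.closedPoint R)).2
    have hzr : z ∈ Set.range φ := by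
      by_contra hn
      exact hBO₁ z ⟨hcl, hn⟩ hz₂ hz₁
    obtain ⟨w₀, hw₀⟩ := hzr
    have f₁ : g₁ (W.ι w₀) = Y₁'.ι (t₁ (IsLocalRing.closedPoint R)) := by
      have ea : φ ≫ pullback.fst p₁ p₂ = W.ι ≫ g₁ := pullback.lift_fst _ _ _
      exact (congr($ea w₀).symm.trans (congrArg (pullback.fst p₁ p₂) hw₀)).trans
        congr($eq₁ (IsLocalRing.closedPoint R))
    have f₂ : g₂ (W.ι w₀) = Y₂'.ι (t₂ (IsLocalRing.closedPoint R)) := by
      have ea : φ ≫ pullback.snd p₁ p₂ = W.ι ≫ g₂ := pullback.lift_snd _ _ _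
      exact (congr($ea w₀).symm.trans (congrArg (pullback.snd p₁ p₂) hw₀)).trans
        congr($eq₂ (IsLocalRing.closedPoint R))
    have m₁ : g₁ (W.ι w₀) ∈ Y₁' := f₁ ▸ (t₁ _).2
    have m₂ : g₂ (W.ι w₀) ∈ Y₂' := f₂ ▸ (t₂ _).2
    refine ⟨⟨W.ι w₀, ⟨m₁, m₂⟩, w₀.2⟩, Y₁'.ι.isOpenEmbedding.injective ?_⟩
    exact congr($ha₁ _).trans f₁
  -- the morphism `k`
  have hk₁O : Set.range k₁ ⊆ Y₁' := hkO₁
  have hk₂O : Set.range k₂ ⊆ Y₂' := hkO₂
  let l₁ : (U₁ : Scheme.{u}) ⟶ Y₁' := IsOpenImmersion.lift Y₁'.ι k₁ (by rwa [Scheme.Opens.range_ι])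
  have hl₁ : l₁ ≫ Y₁'.ι = k₁ := IsOpenImmersion.lift_fac _ _ _
  let l₂ : (U₂ : Scheme.{u}) ⟶ Y₂' := IsOpenImmersion.lift Y₂'.ι k₂ (by rwa [Scheme.Opens.range_ι])
  have hl₂ : l₂ ≫ Y₂'.ι = k₂ := IsOpenImmersion.lift_fac _ _ _
  let k'' : ((U₁ ⊓ U₂ : X.Opens) : Scheme.{u}) ⟶ W' := IsOpenImmersion.lift W'.ι k₀ (by
    rw [Scheme.Opens.range_ι]
    rintro _ ⟨x, rfl⟩
    refine ⟨⟨?_, ?_⟩, hk₀W ⟨x, rfl⟩⟩
    · show g₁ (k₀ x) ∈ Y₁'
      rw [← Scheme.Hom.comp_apply, e₁]; exact hk₁O ⟨_, rfl⟩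
    · show g₂ (k₀ x) ∈ Y₂'
      rw [← Scheme.Hom.comp_apply, e₂]; exact hk₂O ⟨_, rfl⟩)
  have hk'' : k'' ≫ W'.ι = k₀ := IsOpenImmersion.lift_fac _ _ _
  have hj₁ : j₁ ≫ l₁ = k'' ≫ a₁ := by
    rw [← cancel_mono Y₁'.ι, Category.assoc, hl₁, Category.assoc, ha₁, reassoc_of% hk'', e₁]
  have hj₂ : j₂ ≫ l₂ = k'' ≫ a₂ := by
    rw [← cancel_mono Y₂'.ι, Category.assoc, hl₂, Category.assoc, ha₂, reassoc_of% hk'', e₂]
  let m₁ := l₁ ≫ pushout.inl a₁ a₂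
  let m₂ := l₂ ≫ pushout.inr a₁ a₂
  have hm : j₁ ≫ m₁ = j₂ ≫ m₂ := by
    rw [reassoc_of% hj₁, reassoc_of% hj₂, pushout.condition]
  obtain ⟨k, hkm₁, hkm₂⟩ := exists_hom_of_two_opens U₁ U₂ hU m₁ m₂ hm
  refine ⟨Y, k, p, hY, ⟨?_, ?_⟩, hsep, hlft, inferInstance, ?_⟩
  · refine isLocalizing_of_cover k fun x => ?_
    rcases (show x ∈ U₁ ∨ x ∈ U₂ from (hU.ge : ⊤ ≤ U₁ ⊔ U₂) trivial) with hx | hx
    · refine ⟨U₁, hx, hkm₁ ▸ (isLocImmersion_comp l₁ _ ?_ (isLocImmersion_of_isOpenImmersion _)).1⟩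
      exact isLocImmersion_of_comp_openImmersion l₁ Y₁'.ι (hl₁.symm ▸ hk₁)
    · refine ⟨U₂, hx, hkm₂ ▸ (isLocImmersion_comp l₂ _ ?_ (isLocImmersion_of_isOpenImmersion _)).1⟩
      exact isLocImmersion_of_comp_openImmersion l₂ Y₂'.ι (hl₂.symm ▸ hk₂)
  · have inj₁ : ∀ u u' : U₁, k (U₁.ι u) = k (U₁.ι u') → u = u' := by
      intro u u' h
      have h' : pushout.inl a₁ a₂ (l₁ u) = pushout.inl a₁ a₂ (l₁ u') :=
        congr($hkm₁ u).symm.trans (h.trans congr($hkm₁ u'))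
      have h'' := congrArg Y₁'.ι ((pushout.inl a₁ a₂).isOpenEmbedding.injective h')
      exact hk₁.2 (congr($hl₁ u).symm.trans (h''.trans congr($hl₁ u')))
    have inj₂ : ∀ u u' : U₂, k (U₂.ι u) = k (U₂.ι u') → u = u' := by
      intro u u' h
      have h' : pushout.inr a₁ a₂ (l₂ u) = pushout.inr a₁ a₂ (l₂ u') :=
        congr($hkm₂ u).symm.trans (h.trans congr($hkm₂ u'))
      have h'' := congrArg Y₂'.ι ((pushout.inr a₁ a₂).isOpenEmbedding.injective h')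
      exact hk₂.2 (congr($hl₂ u).symm.trans (h''.trans congr($hl₂ u')))
    have mixed : ∀ (u : U₁) (u' : U₂), k (U₁.ι u) = k (U₂.ι u') → U₁.ι u = U₂.ι u' := by
      intro u u' h
      have h' : pushout.inl a₁ a₂ (l₁ u) = pushout.inr a₁ a₂ (l₂ u') :=
        congr($hkm₁ u).symm.trans (h.trans congr($hkm₂ u'))
      obtain ⟨w, hw, -⟩ := (inl_eq_inr_iff a₁ a₂).mp h'
      have e' : g₁ (W'.ι w) = k₁ u :=
        congr($ha₁ w).symm.trans ((congrArg Y₁'.ι hw).trans congr($hl₁ u))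
      have hwO : k₁ u ∈ O := e' ▸ w.2.2.1
      obtain ⟨x, hx⟩ : u ∈ Set.range j₁ := hOeq.le hwO
      subst hx
      have e : U₁.ι (j₁ x) = U₂.ι (j₂ x) :=
        congr($((X.homOfLE_ι (inf_le_left : U₁ ⊓ U₂ ≤ U₁)).trans
          (X.homOfLE_ι (inf_le_right : U₁ ⊓ U₂ ≤ U₂)).symm) x)
      rw [e] at h ⊢
      rw [inj₂ _ _ h]
    intro a b hab
    change k a = k b at hab
    rcases (show a ∈ U₁ ∨ a ∈ U₂ from (hU.ge : ⊤ ≤ U₁ ⊔ U₂) trivial) with ha | ha <;>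
      rcases (show b ∈ U₁ ∨ b ∈ U₂ from (hU.ge : ⊤ ≤ U₁ ⊔ U₂) trivial) with hb | hb
    · exact congrArg Subtype.val (inj₁ ⟨a, ha⟩ ⟨b, hb⟩ hab)
    · exact mixed ⟨a, ha⟩ ⟨b, hb⟩ hab
    · exact (mixed ⟨b, hb⟩ ⟨a, ha⟩ hab.symm).symm
    · exact congrArg Subtype.val (inj₂ ⟨a, ha⟩ ⟨b, hb⟩ hab)
  · refine hom_ext_of_two_opens U₁ U₂ hU ?_ ?_
    · rw [reassoc_of% hkm₁]
      simp only [m₁, p, Category.assoc]
      rw [pushout.inl_desc, reassoc_of% hl₁, h₁]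
    · rw [reassoc_of% hkm₂]
      simp only [m₂, p, Category.assoc]
      rw [pushout.inr_desc, reassoc_of% hl₂, h₂]

end Groth.Agent.LocImm58
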