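import Groth.Agent.LocImm58.Descent
import Mathlib.AlgebraicGeometry.ValuativeCriterion
import Mathlib.AlgebraicGeometry.Gluing

set_option autoImplicit false
universe u

open CategoryTheory Limits AlgebraicGeometry

namespace Groth.Agent.LocImm58

variable {X Y Z S : Scheme.{u}}

/-- Separating a generalization-stable subset of a closed set from a generalization-stable set
downstairs. -/
lemma exists_open_of_stableUnderGeneralization {P Q : Type*} [TopologicalSpace P]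
    [TopologicalSpace Q] [TopologicalSpace.NoetherianSpace P] [QuasiSober P] {q : P → Q}
    (hq : Continuous q) {B A : Set P} (hB : IsClosed B) (hA : StableUnderGeneralization A)
    {R : Set Q} (hR : StableUnderGeneralization R) (h : ∀ z ∈ B, z ∈ A → q z ∉ R) :
    ∃ O : Set Q, IsOpen O ∧ R ⊆ O ∧ ∀ z ∈ B, z ∈ A → q z ∉ O := by
  obtain ⟨T, hTfin, hTcl, hTirr, rfl⟩ :=
    TopologicalSpace.NoetherianSpace.exists_finite_set_isClosed_irreducible hB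
  refine ⟨(⋃ Z ∈ {Z ∈ T | (Z ∩ A).Nonempty}, closure (q '' Z))ᶜ,
    ((hTfin.subset (Set.sep_subset _ _)).isClosed_biUnion fun Z _ => isClosed_closure).isOpen_compl,
    fun r hr hr' => ?_, fun z hz hzA hz' => ?_⟩
  · obtain ⟨Z, ⟨hZ, y, hyZ, hyA⟩, hrZ⟩ := Set.mem_iUnion₂.mp hr'
    have hg : IsGenericPoint (hTirr Z hZ).genericPoint Z :=
      (hTirr Z hZ).isGenericPoint_genericPoint (hTcl Z hZ)
    have hg' := hg.image hq
    refine h _ (Set.mem_sUnion_of_mem hg.mem hZ) (hA (hg.specializes hyZ) hyA) (hR ?_ hr)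
    exact hg'.specializes hrZ
  · obtain ⟨Z, hZ, hzZ⟩ := hz
    exact hz' (Set.mem_iUnion₂.mpr ⟨Z, ⟨hZ, z, hzZ, hzA⟩, subset_closure ⟨z, hzZ, rfl⟩⟩)

/-- Lifting a local scheme through a morphism which is an isomorphism on a stalk. -/
lemma exists_lift_of_isIso_stalkMap (k : X ⟶ Y) (x : X) [IsIso (k.stalkMap x)]
    {R : CommRingCat.{u}} [IsLocalRing R] (g : Spec R ⟶ Y)
    (hg : g (IsLocalRing.closedPoint R) = k x) :
    ∃ t : Spec R ⟶ X, t ≫ k = g ∧ t (IsLocalRing.closedPoint R) = x := by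
  let c : X.presheaf.stalk x ⟶ R := inv (k.stalkMap x) ≫
    Y.presheaf.stalkSpecializes (specializes_of_eq hg) ≫ Scheme.stalkClosedPointTo g
  have hc : IsLocalHom c.hom := by
    have := isLocalHom_stalkSpecializes_of_eq hg
    simp only [c, CommRingCat.hom_comp]
    infer_instance
  refine ⟨Spec.map c ≫ X.fromSpecStalk x, ?_, SchLoc58.specMap_fromSpecStalk_closedPoint c⟩
  rw [Category.assoc, ← Scheme.SpecMap_stalkMap_fromSpecStalk, ← Spec.map_comp_assoc]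
  simp only [c, IsIso.hom_inv_id_assoc]
  rw [Spec.map_comp, Category.assoc, Scheme.SpecMap_stalkSpecializes_fromSpecStalk,
    Scheme.Spec_stalkClosedPointTo_fromSpecStalk]

lemma range_subset_of_closedPoint_mem {R : CommRingCat.{u}} [IsLocalRing R] (g : Spec R ⟶ Y)
    {O : Set Y} (hO : IsOpen O) (h : g (IsLocalRing.closedPoint R) ∈ O) :
    Set.range g ⊆ O := by
  rintro _ ⟨p, rfl⟩
  exact ((IsLocalRing.specializes_closedPoint p).map g.continuous).mem_open hO h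

lemma exists_factor_of_closedPoint_mem {R : CommRingCat.{u}} [IsLocalRing R] (g : Spec R ⟶ Y)
    (i : X ⟶ Y) [IsOpenImmersion i] (h : g (IsLocalRing.closedPoint R) ∈ Set.range i) :
    ∃ t : Spec R ⟶ X, t ≫ i = g :=
  ⟨IsOpenImmersion.lift i g (range_subset_of_closedPoint_mem g i.opensRange.2 h),
    IsOpenImmersion.lift_fac _ _ _⟩

/-- Being localizing is local on the source. -/
lemma isLocalizing_of_cover (k : X ⟶ Y)
    (h : ∀ x : X, ∃ U : X.Opens, x ∈ U ∧ LocImm.IsLocalizing (U.ι ≫ k)) :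
    LocImm.IsLocalizing k := by
  intro x
  obtain ⟨U, hxU, hU⟩ := h x
  obtain ⟨V, W, hxW, e, hl⟩ := hU ⟨x, hxU⟩
  have e' : U.ι ''ᵁ W.1 ≤ k ⁻¹ᵁ V.1 := by
    rintro _ ⟨w, hw, rfl⟩
    exact e hw
  refine ⟨V, ⟨U.ι ''ᵁ W.1, W.2.image_of_isOpenImmersion U.ι⟩, ⟨⟨x, hxU⟩, hxW, rfl⟩, e', ?_⟩
  have hW : W.1 ≤ U.ι ⁻¹ᵁ (U.ι ''ᵁ W.1) := (U.ι.preimage_image_eq W.1).ge
  have hl' : LocImm.IsLocHom (k.appLE V.1 (U.ι ''ᵁ W.1) e' ≫
      U.ι.appLE (U.ι ''ᵁ W.1) W.1 hW).hom := by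
    rw [Scheme.Hom.appLE_comp_appLE]; exact hl
  have hiso : IsIso (U.ι.appLE (U.ι ''ᵁ W.1) W.1 hW) := by
    have : IsIso (U.ι.app (U.ι ''ᵁ W.1)) := inferInstance
    have : IsIso (homOfLE hW) :=
      ⟨homOfLE (U.ι.preimage_image_eq W.1).le, Subsingleton.elim _ _, Subsingleton.elim _ _⟩
    unfold Scheme.Hom.appLE
    infer_instance
  have key : k.appLE V.1 (U.ι ''ᵁ W.1) e' =
      (k.appLE V.1 (U.ι ''ᵁ W.1) e' ≫ U.ι.appLE (U.ι ''ᵁ W.1) W.1 hW) ≫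
        inv (U.ι.appLE (U.ι ''ᵁ W.1) W.1 hW) := by
    rw [Category.assoc, IsIso.hom_inv_id, Category.comp_id]
  show LocImm.IsLocHom (k.appLE V.1 (U.ι ''ᵁ W.1) e').hom
  rw [key, CommRingCat.hom_comp]
  exact isLocHom_comp hl' (isLocHom_of_isIso _)

instance isOpenImmersion_span_map {W : Scheme.{u}} (a₁ : W ⟶ X) (a₂ : W ⟶ Y) [IsOpenImmersion a₁]
    [IsOpenImmersion a₂] {i j : WalkingSpan} (φ : i ⟶ j) :
    IsOpenImmersion ((span a₁ a₂).map φ) := by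
  rcases φ with _ | ⟨⟨⟩⟩ <;> dsimp <;> infer_instance

instance isOpenImmersion_inl {W : Scheme.{u}} (a₁ : W ⟶ X) (a₂ : W ⟶ Y) [IsOpenImmersion a₁]
    [IsOpenImmersion a₂] : IsOpenImmersion (pushout.inl a₁ a₂) :=
  inferInstanceAs (IsOpenImmersion (colimit.ι (span a₁ a₂) WalkingSpan.left))

instance isOpenImmersion_inr {W : Scheme.{u}} (a₁ : W ⟶ X) (a₂ : W ⟶ Y) [IsOpenImmersion a₁]
    [IsOpenImmersion a₂] : IsOpenImmersion (pushout.inr a₁ a₂) :=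
  inferInstanceAs (IsOpenImmersion (colimit.ι (span a₁ a₂) WalkingSpan.right))

/-- Points of a pushout of open immersions. -/
lemma mem_range_inl_or_inr {W : Scheme.{u}} (a₁ : W ⟶ X) (a₂ : W ⟶ Y) [IsOpenImmersion a₁]
    [IsOpenImmersion a₂] (y : ↑(pushout a₁ a₂)) :
    y ∈ Set.range (pushout.inl a₁ a₂) ∨ y ∈ Set.range (pushout.inr a₁ a₂) := by
  obtain ⟨i, z, rfl⟩ := Scheme.IsLocallyDirected.ι_jointly_surjective (span a₁ a₂) y
  rcases i with _ | ⟨⟨⟩⟩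
  · refine .inl ⟨a₁ z, ?_⟩
    exact congr($(colimit.w (span a₁ a₂) WalkingSpan.Hom.fst) z)
  · exact .inl ⟨z, rfl⟩
  · exact .inr ⟨z, rfl⟩

lemma inl_eq_inr_iff {W : Scheme.{u}} (a₁ : W ⟶ X) (a₂ : W ⟶ Y) [IsOpenImmersion a₁]
    [IsOpenImmersion a₂] {x : X} {y : Y} :
    pushout.inl a₁ a₂ x = pushout.inr a₁ a₂ y ↔ ∃ w, a₁ w = x ∧ a₂ w = y := by
  refine ⟨fun h => ?_, ?_⟩
  · obtain ⟨k, fi, fj, w, hwx, hwy⟩ :=
      (Scheme.IsLocallyDirected.ι_eq_ι_iff (span a₁ a₂) (i := WalkingSpan.left)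
        (j := WalkingSpan.right)).mp h
    rcases k with _ | ⟨⟨⟩⟩
    · cases fi; cases fj
      exact ⟨w, hwx, hwy⟩
    · cases fj
    · cases fi
  · rintro ⟨w, rfl, rfl⟩
    exact congr($(pushout.condition (f := a₁) (g := a₂)) w)

/-- A separatedness criterion for two schemes glued along a common open. -/
lemma isSeparated_pushout_desc {W : Scheme.{u}} (a₁ : W ⟶ X) (a₂ : W ⟶ Y) [IsOpenImmersion a₁]
    [IsOpenImmersion a₂] (p₁ : X ⟶ S) (p₂ : Y ⟶ S) [IsSeparated p₁] [IsSeparated p₂]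
    (hp : a₁ ≫ p₁ = a₂ ≫ p₂) [QuasiSeparated (pushout.desc p₁ p₂ hp)]
    (h : ∀ (R K : Type u) [CommRing R] [IsDomain R] [ValuationRing R] [Field K] [Algebra R K]
      [IsFractionRing R K] (w : Spec (.of K) ⟶ W) (t₁ : Spec (.of R) ⟶ X)
      (t₂ : Spec (.of R) ⟶ Y),
      Spec.map (CommRingCat.ofHom (algebraMap R K)) ≫ t₁ = w ≫ a₁ →
      Spec.map (CommRingCat.ofHom (algebraMap R K)) ≫ t₂ = w ≫ a₂ →
      t₁ ≫ p₁ = t₂ ≫ p₂ → t₁ (IsLocalRing.closedPoint R) ∈ Set.range a₁) :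
    IsSeparated (pushout.desc p₁ p₂ hp) := by
  refine IsSeparated.of_valuativeCriterion _ fun sq => ⟨fun ⟨l₁, hl₁, hl₁'⟩ ⟨l₂, hl₂, hl₂'⟩ => ?_⟩
  let gen := Spec.map (CommRingCat.ofHom (algebraMap sq.R sq.K))
  suffices l₁ = l₂ by subst this; rfl
  have : IsDominant gen := ⟨(PrimeSpectrum.denseRange_comap_iff_ker_le_nilRadical _).mpr
    (((RingHom.injective_iff_ker_eq_bot _).mp (IsFractionRing.injective sq.R sq.K)).le.trans
      bot_le)⟩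
  -- two lifts landing in the same chart agree
  have same : ∀ {C : Scheme.{u}} (i : C ⟶ pushout a₁ a₂) [IsOpenImmersion i]
      [IsSeparated (i ≫ pushout.desc p₁ p₂ hp)] (l l' : Spec (.of sq.R) ⟶ pushout a₁ a₂),
      gen ≫ l = gen ≫ l' → l ≫ pushout.desc p₁ p₂ hp = l' ≫ pushout.desc p₁ p₂ hp →
      l (IsLocalRing.closedPoint sq.R) ∈ Set.range i →
      l' (IsLocalRing.closedPoint sq.R) ∈ Set.range i → l = l' := by
    intro C i _ _ l l' hg hS hl hl'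
    obtain ⟨t, rfl⟩ := exists_factor_of_closedPoint_mem l i hl
    obtain ⟨t', rfl⟩ := exists_factor_of_closedPoint_mem l' i hl'
    simp only [← Category.assoc, cancel_mono] at hg
    simp only [Category.assoc] at hS
    rw [ext_of_isDominant_of_isSeparated (i ≫ pushout.desc p₁ p₂ hp) hS gen hg]
  have : IsSeparated (pushout.inl a₁ a₂ ≫ pushout.desc p₁ p₂ hp) := by
    rw [pushout.inl_desc]; infer_instance
  have : IsSeparated (pushout.inr a₁ a₂ ≫ pushout.desc p₁ p₂ hp) := by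
    rw [pushout.inr_desc]; infer_instance
  have mixed : ∀ l l' : Spec (.of sq.R) ⟶ pushout a₁ a₂, gen ≫ l = gen ≫ l' →
      l ≫ pushout.desc p₁ p₂ hp = l' ≫ pushout.desc p₁ p₂ hp →
      l (IsLocalRing.closedPoint sq.R) ∈ Set.range (pushout.inl a₁ a₂) →
      l' (IsLocalRing.closedPoint sq.R) ∈ Set.range (pushout.inr a₁ a₂) → l = l' := by
    intro l l' hg hS hl hl'
    obtain ⟨t₁, rfl⟩ := exists_factor_of_closedPoint_mem l _ hl
    obtain ⟨t₂, rfl⟩ := exists_factor_of_closedPoint_mem l' _ hl'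
    have hr : Set.range (gen ≫ t₁) ⊆ Set.range a₁ := by
      rintro _ ⟨p, rfl⟩
      obtain ⟨w, hw, -⟩ := (inl_eq_inr_iff a₁ a₂ (x := (gen ≫ t₁) p) (y := (gen ≫ t₂) p)).mp
        congr($hg p)
      exact ⟨w, hw⟩
    let w := IsOpenImmersion.lift a₁ (gen ≫ t₁) hr
    have hw₁ : gen ≫ t₁ = w ≫ a₁ := (IsOpenImmersion.lift_fac _ _ _).symm
    have hw₂ : gen ≫ t₂ = w ≫ a₂ := by
      rw [← cancel_mono (pushout.inr a₁ a₂), Category.assoc, ← hg, reassoc_of% hw₁,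
        pushout.condition, Category.assoc]
    have hS' : t₁ ≫ p₁ = t₂ ≫ p₂ := by
      simp only [Category.assoc] at hS
      rwa [pushout.inl_desc, pushout.inr_desc] at hS
    obtain ⟨w₀, hw₀⟩ := h sq.R sq.K w t₁ t₂ hw₁ hw₂ hS'
    refine same (pushout.inr a₁ a₂) _ _ hg hS ⟨a₂ w₀, ?_⟩ hl'
    rw [← (inl_eq_inr_iff a₁ a₂).mpr ⟨w₀, rfl, rfl⟩, hw₀]
    rfl
  have hg : gen ≫ l₁ = gen ≫ l₂ := hl₁.trans hl₂.symm
  have hS : l₁ ≫ pushout.desc p₁ p₂ hp = l₂ ≫ pushout.desc p₁ p₂ hp := hl₁'.trans hl₂'.symm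
  rcases mem_range_inl_or_inr a₁ a₂ (l₁ (IsLocalRing.closedPoint sq.R)) with h₁ | h₁ <;>
    rcases mem_range_inl_or_inr a₁ a₂ (l₂ (IsLocalRing.closedPoint sq.R)) with h₂ | h₂
  · exact same _ l₁ l₂ hg hS h₁ h₂
  · exact mixed l₁ l₂ hg hS h₁ h₂
  · exact (mixed l₂ l₁ hg.symm hS.symm h₂ h₁).symm
  · exact same _ l₁ l₂ hg hS h₁ h₂

lemma hom_ext_of_two_opens (U₁ U₂ : X.Opens) (hU : U₁ ⊔ U₂ = ⊤) {m m' : X ⟶ Y}
    (h₁ : U₁.ι ≫ m = U₁.ι ≫ m') (h₂ : U₂.ι ≫ m = U₂.ι ≫ m') : m = m' := by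
  refine Scheme.hom_ext_of_forall _ _ fun x => ?_
  rcases (show x ∈ U₁ ∨ x ∈ U₂ from (hU.ge : ⊤ ≤ U₁ ⊔ U₂) trivial) with hx | hx
  · exact ⟨U₁, hx, h₁⟩
  · exact ⟨U₂, hx, h₂⟩

lemma exists_hom_of_two_opens (U₁ U₂ : X.Opens) (hU : U₁ ⊔ U₂ = ⊤) (m₁ : (U₁ : Scheme.{u}) ⟶ Y)
    (m₂ : (U₂ : Scheme.{u}) ⟶ Y)
    (h : X.homOfLE (inf_le_left : U₁ ⊓ U₂ ≤ U₁) ≫ m₁ = X.homOfLE inf_le_right ≫ m₂) :
    ∃ m : X ⟶ Y, U₁.ι ≫ m = m₁ ∧ U₂.ι ≫ m = m₂ := by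
  let 𝒰 : X.OpenCover := Scheme.openCoverOfIsOpenCover X ![U₁, U₂] (by
    refine top_le_iff.mp (hU ▸ sup_le ?_ ?_)
    · exact le_iSup_of_le 0 le_rfl
    · exact le_iSup_of_le 1 le_rfl)
  let g : ∀ i : Fin 2, ((![U₁, U₂] i : X.Opens) : Scheme.{u}) ⟶ Y :=
    Fin.cases m₁ (fun i => Fin.cases m₂ (fun j => j.elim0) i)
  have key : pullback.fst U₁.ι U₂.ι ≫ m₁ = pullback.snd U₁.ι U₂.ι ≫ m₂ := by
    let r := IsOpenImmersion.lift (U₁ ⊓ U₂ : X.Opens).ι (pullback.fst U₁.ι U₂.ι ≫ U₁.ι) (by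
      rw [Scheme.Opens.range_ι]
      rintro _ ⟨p, rfl⟩
      refine ⟨(pullback.fst U₁.ι U₂.ι p).2, ?_⟩
      rw [pullback.condition]
      exact (pullback.snd U₁.ι U₂.ι p).2)
    have e₁ : r ≫ X.homOfLE inf_le_left = pullback.fst U₁.ι U₂.ι := by
      rw [← cancel_mono U₁.ι, Category.assoc, X.homOfLE_ι]
      exact IsOpenImmersion.lift_fac _ _ _
    have e₂ : r ≫ X.homOfLE inf_le_right = pullback.snd U₁.ι U₂.ι := by
      rw [← cancel_mono U₂.ι, Category.assoc, X.homOfLE_ι, ← pullback.condition]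
      exact IsOpenImmersion.lift_fac _ _ _
    rw [← e₁, ← e₂, Category.assoc, Category.assoc, h]
  have key' : pullback.fst U₂.ι U₁.ι ≫ m₂ = pullback.snd U₂.ι U₁.ι ≫ m₁ := by
    rw [← cancel_epi (pullbackSymmetry U₁.ι U₂.ι).hom, pullbackSymmetry_hom_comp_fst_assoc,
      pullbackSymmetry_hom_comp_snd_assoc, key]
  have hc : ∀ i j : Fin 2, pullback.fst (![U₁, U₂] i).ι (![U₁, U₂] j).ι ≫ g i =
      pullback.snd (![U₁, U₂] i).ι (![U₁, U₂] j).ι ≫ g j := by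
    intro i j
    fin_cases i <;> fin_cases j
    · exact congrArg (· ≫ m₁) (fst_eq_snd_of_mono_eq U₁.ι)
    · exact key
    · exact key'
    · exact congrArg (· ≫ m₂) (fst_eq_snd_of_mono_eq U₂.ι)
  exact ⟨𝒰.glueMorphisms g hc, 𝒰.ι_glueMorphisms g hc (0 : Fin 2),
    𝒰.ι_glueMorphisms g hc (1 : Fin 2)⟩

end Groth.Agent.LocImm58
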