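import Groth.Agent.LocImm58.Blow

/-!
Extending morphisms into proper schemes after blowing up, and graphs.
-/

set_option autoImplicit false
set_option backward.isDefEq.respectTransparency.types false
universe u

open CategoryTheory Limits AlgebraicGeometry TopologicalSpace

namespace Groth.Agent.LocImm58

variable {Z X Y S : Scheme.{u}}

theorem exists_blowUp_extension [IsNoetherian X] (a : X ⟶ S) (b : Y ⟶ S) [IsProper b]
    (j : Z ⟶ X) (f : Z ⟶ Y) (U : X.Opens) (z : Z ⟶ (U : Scheme.{u})) (s : (U : Scheme.{u}) ⟶ Y)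
    (hz : z ≫ U.ι = j) (hs : s ≫ b = U.ι ≫ a) (hzs : z ≫ s = f) :
    ∃ (𝓘 : X.IdealSheafData) (Xt : Scheme.{u}) (c : Xt ⟶ X) (e : Z ⟶ Xt) (f' : Xt ⟶ Y),
      BlowUp.IsBlowUp c 𝓘 ∧ Disjoint (𝓘.support : Set X) (Set.range (fun x => j x)) ∧
      e ≫ c = j ∧ e ≫ f' = f ∧ c ≫ a = f' ≫ b := by
  let γ : (U : Scheme.{u}) ⟶ pullback a b := pullback.lift U.ι s hs.symm
  have hγ : γ ≫ pullback.fst a b = U.ι := pullback.lift_fst _ _ _
  have := isNoetherian_opens U
  have : QuasiCompact (γ ≫ pullback.fst a b) := by rw [hγ]; infer_instance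
  have : QuasiCompact γ := QuasiCompact.of_comp γ (pullback.fst a b)
  let φ := γ.imageι ≫ pullback.fst a b
  have : IsIso (φ ∣_ U.ι.opensRange) :=
    FlatCrit65.Blow.isIso_image_comp_restrict (pullback.fst a b) γ U.ι hγ
  obtain ⟨𝓘, Xt, c, hc, hadm, -, h, hh⟩ :=
    FlatCrit65.Blow.exists_dominating_blowUp φ U.ι.opensRange (isCompact_of_isNoetherian _)
  have hjU : Set.range (fun x => j x) ⊆ (U.ι.opensRange : Set X) := by
    rintro _ ⟨x, rfl⟩
    exact ⟨z x, by rw [← Scheme.Hom.comp_apply, hz]⟩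
  have hdis : Disjoint (𝓘.support : Set X) (Set.range (fun x => j x)) := hadm.2.mono_right hjU
  obtain ⟨e, he⟩ := exists_lift_blowUp hc j hdis
  have key : e ≫ h = z ≫ γ.toImage := by
    refine FlatCrit65.Blow.eq_of_isIso_restrict φ (z ≫ U.ι.isoOpensRange.hom) _ _ ?_ ?_
    · rw [Category.assoc, hh, he, Category.assoc, Scheme.Hom.isoOpensRange_hom_ι, hz]
    · simp only [φ, Category.assoc, Scheme.Hom.toImage_imageι_assoc, hγ,
        Scheme.Hom.isoOpensRange_hom_ι]
  refine ⟨𝓘, Xt, c, e, h ≫ γ.imageι ≫ pullback.snd a b, hc, hdis, he, ?_, ?_⟩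
  · rw [reassoc_of% key, Scheme.Hom.toImage_imageι_assoc, pullback.lift_snd, hzs]
  · rw [← hh]
    simp only [φ, Category.assoc, pullback.condition]

/-- A fibre product over a separated `S`-scheme is closed in the fibre product over `S`. -/
theorem isClosedImmersion_lift_graph {W P : Scheme.{u}} (k : Y ⟶ P) (g : W ⟶ P) (p : P ⟶ S) [IsSeparated p]
    (a : W ⟶ S) (ha : a = g ≫ p) (h : pullback.snd k g ≫ a = pullback.fst k g ≫ k ≫ p) :
    IsClosedImmersion (pullback.lift (pullback.snd k g) (pullback.fst k g) h) := by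
  subst ha
  have e : pullback.lift (pullback.snd k g) (pullback.fst k g) h =
      (pullbackSymmetry k g).hom ≫ pullback.mapDesc g k p := by
    refine pullback.hom_ext ?_ ?_
    · rw [pullback.lift_fst, Category.assoc, pullback.mapDesc, pullback.map, pullback.lift_fst,
        Category.comp_id, pullbackSymmetry_hom_comp_fst]
    · rw [pullback.lift_snd, Category.assoc, pullback.mapDesc, pullback.map, pullback.lift_snd,
        Category.comp_id, pullbackSymmetry_hom_comp_snd]
  rw [e]
  infer_instance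

end Groth.Agent.LocImm58
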