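import Groth.Agent.LocImm58.Factor

set_option autoImplicit false
universe u

open CategoryTheory Limits AlgebraicGeometry

namespace Groth.Agent.LocImm58

variable {X Y S : Scheme.{u}}

lemma isStableUnderComposition_locallyEssFiniteType :
    MorphismProperty.IsStableUnderComposition (@EssFT.LocallyEssFiniteType.{u}) :=
  HasRingHomProperty.stableUnderComposition
    (RingHom.locally_stableUnderComposition RingHom.EssFiniteType.respectsIso
      RingHom.EssFiniteType.isStableUnderBaseChange.localizationPreserves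
      RingHom.EssFiniteType.stableUnderComposition)

lemma essFiniteType_of_isLocImmersion [IsNoetherian X] [IsNoetherian Y] (f : X ⟶ Y)
    (hf : LocImm.IsLocImmersion f) : EssFT.EssFiniteType f := by
  have : EssFT.LocallyEssFiniteType f := by
    refine ⟨fun x => ?_⟩
    obtain ⟨U, V, hx, e, h⟩ := hf.1 x
    refine ⟨U, V, hx, e, ?_⟩
    let : Algebra Γ(Y, U.1) Γ(X, V.1) := (f.appLE U V e).hom.toAlgebra
    obtain ⟨M, hM⟩ := h
    exact @Algebra.EssFiniteType.of_isLocalization _ _ _ _ _ M hM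
  exact { this with isCompact_preimage := QuasiCompact.isCompact_preimage }

lemma essFiniteType_comp [IsNoetherian X] [IsNoetherian Y] [IsNoetherian S] (f : X ⟶ Y)
    (g : Y ⟶ S) [EssFT.EssFiniteType f] [EssFT.EssFiniteType g] : EssFT.EssFiniteType (f ≫ g) := by
  have h1 : EssFT.LocallyEssFiniteType (f ≫ g) :=
    isStableUnderComposition_locallyEssFiniteType.comp_mem f g inferInstance inferInstance
  exact { h1 with isCompact_preimage := QuasiCompact.isCompact_preimage }

lemma isNoetherian_Spec_stalk [IsNoetherian X] (x : X) :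
    IsNoetherian (Spec (X.presheaf.stalk x)) := inferInstance

lemma isLocImmersion_fromSpecStalk [IsNoetherian X] (x : X) :
    LocImm.IsLocImmersion (X.fromSpecStalk x) := by
  obtain ⟨_, ⟨V, hV, rfl⟩, hxV, -⟩ :=
    X.isBasis_affineOpens.exists_subset_of_mem_open (Set.mem_univ x) isOpen_univ
  have : IsNoetherianRing Γ(X, V) := IsLocallyNoetherian.component_noetherian ⟨V, hV⟩
  have := isNoetherian_Spec_stalk x
  rw [← hV.fromSpecStalk_eq_fromSpecStalk hxV]
  let := TopCat.Presheaf.algebra_section_stalk X.presheaf ⟨x, hxV⟩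
  have := hV.isLocalization_stalk ⟨x, hxV⟩
  exact isLocImmersion_comp _ _
    (isLocImmersion_SpecMap _ (isLocHom_algebraMap (hV.primeIdealOf ⟨x, hxV⟩).asIdeal.primeCompl))
    (@isLocImmersion_of_isOpenImmersion _ _ _ hV.isOpenImmersion_fromSpec)

variable {P : MorphismProperty Scheme.{u}}
  (hα : ∀ {W X Y : Scheme.{u}} [IsNoetherian W] [IsNoetherian X] [IsNoetherian Y] (i : W ⟶ X)
    (f : X ⟶ Y) [IsSeparated f] [EssFT.EssFiniteType f],
    LocImm.IsLocImmersion i → P f → P (i ≫ f))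
include hα

lemma fromSpecStalk_comp_iff [IsNoetherian X] [IsNoetherian Y] [IsNoetherian S] (k : X ⟶ Y)
    (hk : LocImm.IsLocImmersion k) (p : Y ⟶ S) [IsSeparated p] [EssFT.EssFiniteType p] (x : X) :
    P (X.fromSpecStalk x ≫ k ≫ p) ↔ P (Y.fromSpecStalk (k x) ≫ p) := by
  have := isIso_stalkMap k hk.1 x
  have := isNoetherian_Spec_stalk x
  have := isNoetherian_Spec_stalk (k x)
  have := essFiniteType_of_isLocImmersion _ (isLocImmersion_fromSpecStalk (k x))
  have := essFiniteType_of_isLocImmersion (Spec.map (k.stalkMap x))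
    (isLocImmersion_of_isOpenImmersion _)
  have := essFiniteType_comp (Y.fromSpecStalk (k x)) p
  have := essFiniteType_comp (Spec.map (k.stalkMap x)) (Y.fromSpecStalk (k x) ≫ p)
  have := isPreimmersion _ (isLocImmersion_fromSpecStalk (k x))
  rw [← Scheme.SpecMap_stalkMap_fromSpecStalk_assoc]
  refine ⟨fun h => ?_, fun h => hα _ _ (isLocImmersion_of_isOpenImmersion _) h⟩
  have := hα (inv (Spec.map (k.stalkMap x))) _ (isLocImmersion_of_isOpenImmersion _) h
  rwa [IsIso.inv_hom_id_assoc] at this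

theorem locus_open_and_factors
    (hβ₁ : ∀ {X Y : Scheme.{u}} [IsNoetherian X] [IsNoetherian Y] (f : X ⟶ Y) [IsSeparated f]
      [LocallyOfFiniteType f], (∀ x : X, P (X.fromSpecStalk x ≫ f)) → P f)
    (hβ₂ : ∀ {X Y : Scheme.{u}} [IsNoetherian X] [IsNoetherian Y] (f : X ⟶ Y) [IsSeparated f]
      [LocallyOfFiniteType f], IsOpen {x : X | P (X.fromSpecStalk x ≫ f)})
    [IsNoetherian X] [IsNoetherian Y] (f : X ⟶ Y) [IsSeparated f] [EssFT.EssFiniteType f] :
    ((∀ x : X, P (X.fromSpecStalk x ≫ f)) → P f) ∧ IsOpen {x : X | P (X.fromSpecStalk x ≫ f)} ∧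
      (P f → ∃ (Z : Scheme.{u}) (i : X ⟶ Z) (h : Z ⟶ Y), IsNoetherian Z ∧
        LocImm.IsLocImmersion i ∧ IsSeparated h ∧ LocallyOfFiniteType h ∧ QuasiCompact h ∧
        P h ∧ i ≫ h = f) := by
  obtain ⟨Y₀, k, p, _, hk, _, _, _, rfl⟩ := exists_factorization f
  have := essFiniteType_of_finiteType p
  let U : Y₀.Opens := ⟨{y | P (Y₀.fromSpecStalk y ≫ p)}, hβ₂ p⟩
  have := isNoetherian_opens U
  have hU : P (U.ι ≫ p) := hβ₁ _ fun y =>
    (fromSpecStalk_comp_iff hα U.ι (isLocImmersion_of_isOpenImmersion _) p y).mpr y.2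
  have hrange : (∀ x : X, P (X.fromSpecStalk x ≫ k ≫ p)) → Set.range k ⊆ U := fun h => by
    rintro _ ⟨x, rfl⟩
    exact (fromSpecStalk_comp_iff hα k hk p x).mp (h x)
  have key : (∀ x : X, P (X.fromSpecStalk x ≫ k ≫ p)) →
      ∃ (Z : Scheme.{u}) (i : X ⟶ Z) (h : Z ⟶ Y), IsNoetherian Z ∧
        LocImm.IsLocImmersion i ∧ IsSeparated h ∧ LocallyOfFiniteType h ∧ QuasiCompact h ∧
        P h ∧ i ≫ h = k ≫ p := fun h => by
    let k' := IsOpenImmersion.lift U.ι k (by rw [Scheme.Opens.range_ι]; exact hrange h)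
    have hk' : k' ≫ U.ι = k := IsOpenImmersion.lift_fac _ _ _
    exact ⟨U, k', U.ι ≫ p, inferInstance, isLocImmersion_of_comp_openImmersion k' U.ι (hk'.symm ▸ hk),
      inferInstance, inferInstance, inferInstance, hU, by rw [reassoc_of% hk']⟩
  refine ⟨fun h => ?_, ?_, fun h => key fun x => ?_⟩
  · obtain ⟨Z, i, g, _, hi, _, _, _, hg, e⟩ := key h
    have := essFiniteType_of_finiteType g
    exact e ▸ hα i g hi hg
  · have : {x : X | P (X.fromSpecStalk x ≫ k ≫ p)} = k ⁻¹ᵁ U :=
      Set.ext fun x => fromSpecStalk_comp_iff hα k hk p x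
    rw [this]
    exact (k ⁻¹ᵁ U).2
  · have := isNoetherian_Spec_stalk x
    exact hα _ _ (isLocImmersion_fromSpecStalk x) h

end Groth.Agent.LocImm58
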