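import Mathlib.RingTheory.Localization.BaseChange
import Mathlib.RingTheory.Localization.LocalizationLocalization
import Mathlib.Algebra.Category.Ring.Constructions
import Mathlib.Tactic.LinearCombination
import Groth.Prelude.Def_W4c5cptfessfintypeLocImm

set_option autoImplicit false
universe u v w

namespace Groth.Agent.LocImm58

variable {A : Type u} {B : Type v} {C : Type w} [CommRing A] [CommRing B] [CommRing C]

/-- A ring map is localizing iff every element of the target is a fraction with invertible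
denominator and the kernel is killed by such denominators. -/
lemma isLocHom_iff {φ : A →+* B} :
    LocImm.IsLocHom φ ↔ (∀ b : B, ∃ a s : A, IsUnit (φ s) ∧ b * φ s = φ a) ∧
      ∀ a : A, φ a = 0 → ∃ s : A, IsUnit (φ s) ∧ s * a = 0 := by
  let := φ.toAlgebra
  constructor
  · intro h
    obtain ⟨S, hS⟩ := h
    refine ⟨fun b => ?_, fun a ha => ?_⟩
    · obtain ⟨⟨a, s⟩, h⟩ := IsLocalization.surj S b
      exact ⟨a, s.1, IsLocalization.map_units B s, h⟩
    · obtain ⟨s, hs⟩ := (IsLocalization.map_eq_zero_iff S B a).mp ha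
      exact ⟨s.1, IsLocalization.map_units B s, hs⟩
  · rintro ⟨h1, h2⟩
    refine ⟨(IsUnit.submonoid B).comap φ.toMonoidHom,
      { map_units := fun s => s.2
        surj := fun b => ?_
        exists_of_eq := fun {x y} hxy => ?_ }⟩
    · obtain ⟨a, s, hs, e⟩ := h1 b
      exact ⟨⟨a, ⟨s, hs⟩⟩, e⟩
    · obtain ⟨s, hs, e⟩ := h2 (x - y) (by rw [map_sub, sub_eq_zero]; exact hxy)
      exact ⟨⟨s, hs⟩, by linear_combination e⟩

lemma isLocHom_of_bijective {φ : A →+* B} (h : Function.Bijective φ) : LocImm.IsLocHom φ := by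
  refine isLocHom_iff.mpr ⟨fun b => ?_, fun a ha => ⟨1, by simp, ?_⟩⟩
  · obtain ⟨a, rfl⟩ := h.2 b
    exact ⟨a, 1, by simp, by simp⟩
  · rw [h.1 (ha.trans (map_zero φ).symm), mul_zero]

lemma isLocHom_algebraMap [Algebra A B] (S : Submonoid A) [IsLocalization S B] :
    LocImm.IsLocHom (algebraMap A B) :=
  isLocHom_iff.mpr ⟨fun b => by
    obtain ⟨⟨a, s⟩, h⟩ := IsLocalization.surj S b
    exact ⟨a, s.1, IsLocalization.map_units B s, h⟩, fun a ha => by
    obtain ⟨s, hs⟩ := (IsLocalization.map_eq_zero_iff S B a).mp ha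
    exact ⟨s.1, IsLocalization.map_units B s, hs⟩⟩

lemma isLocHom_comp {φ : A →+* B} {ψ : B →+* C} (hφ : LocImm.IsLocHom φ) (hψ : LocImm.IsLocHom ψ) :
    LocImm.IsLocHom (ψ.comp φ) := by
  obtain ⟨f1, k1⟩ := isLocHom_iff.mp hφ
  obtain ⟨f2, k2⟩ := isLocHom_iff.mp hψ
  have conv : ∀ b : B, IsUnit (ψ b) → ∃ a s : A, IsUnit (φ s) ∧ b * φ s = φ a ∧ IsUnit (ψ (φ a)) := by
    intro b hb
    obtain ⟨a, s, hs, e⟩ := f1 b
    refine ⟨a, s, hs, e, ?_⟩
    rw [← e, map_mul]
    exact hb.mul (hs.map ψ)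
  refine isLocHom_iff.mpr ⟨fun c => ?_, fun a ha => ?_⟩
  · obtain ⟨b, t, ht, e⟩ := f2 c
    obtain ⟨a2, s2, hs2, e2, hu⟩ := conv t ht
    obtain ⟨a, s, hs, e1⟩ := f1 (b * φ s2)
    refine ⟨a, a2 * s, ?_, ?_⟩
    · simp only [RingHom.comp_apply, map_mul]
      exact hu.mul (hs.map ψ)
    · simp only [RingHom.comp_apply, map_mul]
      rw [← e2, ← e1, map_mul, map_mul, map_mul]
      linear_combination ψ (φ s2) * ψ (φ s) * e
  · obtain ⟨b, hb, e⟩ := k2 (φ a) ha
    obtain ⟨a2, s2, hs2, e2, hu⟩ := conv b hb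
    have : φ (a2 * a) = 0 := by
      rw [map_mul, ← e2]; linear_combination φ s2 * e
    obtain ⟨s, hs, e3⟩ := k1 _ this
    refine ⟨s * a2, ?_, by rw [mul_assoc]; exact e3⟩
    simp only [RingHom.comp_apply, map_mul]
    exact (hs.map ψ).mul hu

lemma isLocHom_of_comp_injective {φ : A →+* B} {ψ : B →+* C} (h : LocImm.IsLocHom (ψ.comp φ))
    (hψ : Function.Injective ψ) : LocImm.IsLocHom ψ := by
  obtain ⟨h1, -⟩ := isLocHom_iff.mp h
  refine isLocHom_iff.mpr ⟨fun c => ?_, fun b hb => ⟨1, by simp, ?_⟩⟩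
  · obtain ⟨a, s, hs, e⟩ := h1 c
    exact ⟨φ a, φ s, hs, e⟩
  · rw [hψ (hb.trans (map_zero ψ).symm), mul_zero]

/-- If `A → B → C` is localizing and `A → B` is localizing then so is `B → C`. -/
lemma isLocHom_of_comp {φ : A →+* B} {ψ : B →+* C} (hφ : LocImm.IsLocHom φ)
    (h : LocImm.IsLocHom (ψ.comp φ)) : LocImm.IsLocHom ψ := by
  obtain ⟨h1, h2⟩ := isLocHom_iff.mp h
  obtain ⟨f1, -⟩ := isLocHom_iff.mp hφ
  refine isLocHom_iff.mpr ⟨fun c => ?_, fun b hb => ?_⟩
  · obtain ⟨a, s, hs, e⟩ := h1 c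
    exact ⟨φ a, φ s, hs, e⟩
  · obtain ⟨a, t, ht, e⟩ := f1 b
    have : ψ (φ a) = 0 := by rw [← e, map_mul, hb, zero_mul]
    obtain ⟨s, hs, e'⟩ := h2 a this
    refine ⟨φ s, hs, ?_⟩
    have hz : φ s * φ a = 0 := by rw [← map_mul, e', map_zero]
    rw [← e, ← mul_assoc] at hz
    exact ht.mul_left_eq_zero.mp hz

open CategoryTheory in
/-- Base change of a localizing ring map. -/
lemma isLocHom_of_isPushout {P Q R T : CommRingCat.{u}} {f : P ⟶ Q} {g : P ⟶ R} {i : Q ⟶ T}
    {j : R ⟶ T} (h : IsPushout f g i j) (hf : LocImm.IsLocHom f.hom) : LocImm.IsLocHom j.hom := by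
  let := f.hom.toAlgebra
  obtain ⟨S, hS⟩ := hf
  let L := Localization (S.map g.hom)
  let k : R ⟶ CommRingCat.of L := CommRingCat.ofHom (algebraMap R L)
  have hu : ∀ s : S, IsUnit ((g ≫ k).hom s) := fun s =>
    IsLocalization.map_units L ⟨g.hom s.1, Submonoid.mem_map.mpr ⟨s.1, s.2, rfl⟩⟩
  let q : Q ⟶ CommRingCat.of L := CommRingCat.ofHom (IsLocalization.lift (S := Q) hu)
  have hq : f ≫ q = g ≫ k := CommRingCat.hom_ext (IsLocalization.lift_comp (S := Q) hu)
  have hu' : ∀ t : S.map g.hom, IsUnit (j.hom t.1) := by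
    rintro ⟨_, s, hs, rfl⟩
    have : IsUnit ((f ≫ i).hom s) := (IsLocalization.map_units Q ⟨s, hs⟩).map i.hom
    rw [h.w] at this
    exact this
  let l : CommRingCat.of L ⟶ T := CommRingCat.ofHom (IsLocalization.lift (S := L) hu')
  have hl : k ≫ l = j := CommRingCat.hom_ext (IsLocalization.lift_comp (S := L) hu')
  let d : T ⟶ CommRingCat.of L := h.desc q k hq
  have hdj : j ≫ d = k := h.inr_desc _ _ _
  have h1 : d ≫ l = 𝟙 T := by
    apply h.hom_ext
    · rw [h.inl_desc_assoc, Category.comp_id]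
      apply CommRingCat.hom_ext
      apply IsLocalization.ringHom_ext S
      have : f ≫ q ≫ l = f ≫ i := by rw [reassoc_of% hq, hl, h.w]
      exact congr(($this).hom)
    · rw [reassoc_of% hdj, hl, Category.comp_id]
  have h2 : l ≫ d = 𝟙 (CommRingCat.of L) := by
    apply CommRingCat.hom_ext
    apply IsLocalization.ringHom_ext (S.map g.hom)
    have : k ≫ l ≫ d = k := by rw [reassoc_of% hl, hdj]
    exact congr(($this).hom)
  have : IsIso l := ⟨d, h2, h1⟩
  have hlbij : Function.Bijective l := ConcreteCategory.bijective_of_isIso l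
  rw [← hl]
  exact isLocHom_comp (isLocHom_algebraMap (S.map g.hom)) (isLocHom_of_bijective hlbij)

end Groth.Agent.LocImm58
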