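import Groth.Agent.LocImm58.Blow

/-!
A common dense open model of finitely many localizing immersions.
-/

set_option autoImplicit false
set_option backward.isDefEq.respectTransparency.types false
universe u

open CategoryTheory Limits AlgebraicGeometry TopologicalSpace

namespace Groth.Agent.LocImm58

variable {U S : Scheme.{u}}

theorem exists_common_open_dense [IsNoetherian U] [IsNoetherian S] {n : ℕ} (i₀ : Fin n)
    (gU : U ⟶ S) (P : Fin n → Scheme.{u}) [∀ i, IsNoetherian (P i)] (π : ∀ i, P i ⟶ S)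
    [∀ i, IsSeparated (π i)] [∀ i, LocallyOfFiniteType (π i)]
    (h : ∀ i, U ⟶ P i) (hh : ∀ i, LocImm.IsLocImmersion (h i)) (hπ : ∀ i, h i ≫ π i = gU) :
    ∃ (W : Scheme.{u}) (k : U ⟶ W) (gW : W ⟶ S) (w : ∀ i, W ⟶ P i), IsNoetherian W ∧
      IsSeparated gW ∧ LocallyOfFiniteType gW ∧ Dense (Set.range k) ∧
      ∀ i, IsOpenImmersion (w i) ∧ k ≫ w i = h i ∧ w i ≫ π i = gW := by
  have H := fun i => exists_common_open (h i₀) (h i) (π i₀) (π i) (hh i₀) (hh i) ((hπ i₀).trans (hπ i).symm)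
  choose W k g₁ g₂ _ hg₁ hg₂ e e₁ e₂ using H
  have := hg₁
  have := hg₂
  let O : (P i₀).Opens := ⨅ i, (g₁ i).opensRange
  have hO : Set.range (h i₀) ⊆ (O : Set (P i₀)) := by
    rintro _ ⟨x, rfl⟩
    rw [TopologicalSpace.Opens.coe_iInf]
    exact Set.mem_iInter.2 fun i => ⟨k i x, by rw [← Scheme.Hom.comp_apply, e₁]⟩
  obtain ⟨V, hV, hhV, hVc⟩ := exists_open_subset_closure (h i₀) (hh i₀) O hO
  have := isNoetherian_opens V
  have hle : ∀ i, Set.range V.ι ⊆ Set.range (g₁ i) := fun i => by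
    rw [Scheme.Opens.range_ι]
    exact fun y hy => (iInf_le _ i : O ≤ _) (hV hy)
  let l : ∀ i, (V : Scheme.{u}) ⟶ W i := fun i => IsOpenImmersion.lift (g₁ i) V.ι (hle i)
  have hl : ∀ i, l i ≫ g₁ i = V.ι := fun i => IsOpenImmersion.lift_fac _ _ _
  let kV : U ⟶ (V : Scheme.{u}) := IsOpenImmersion.lift V.ι (h i₀) (by rwa [Scheme.Opens.range_ι])
  have hkV : kV ≫ V.ι = h i₀ := IsOpenImmersion.lift_fac _ _ _
  refine ⟨V, kV, V.ι ≫ π i₀, fun i => l i ≫ g₂ i, this, inferInstance, inferInstance, ?_, fun i => ⟨?_, ?_, ?_⟩⟩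
  · intro x
    rw [V.ι.isOpenEmbedding.isInducing.closure_eq_preimage_closure_image, Set.mem_preimage]
    refine closure_mono ?_ (hVc x.2)
    rintro _ ⟨u, rfl⟩
    exact ⟨kV u, ⟨u, rfl⟩, by rw [← hkV]; rfl⟩
  · have : IsOpenImmersion (l i ≫ g₁ i) := by rw [hl]; infer_instance
    have : IsOpenImmersion (l i) := IsOpenImmersion.of_comp (l i) (g₁ i)
    infer_instance
  · have : kV ≫ l i = k i := by
      rw [← cancel_mono (g₁ i), Category.assoc, hl, hkV, e₁]
    rw [reassoc_of% this, e₂]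
  · rw [Category.assoc, ← e i, ← Category.assoc, hl]

/-- Blow up to make an open subscheme dense. -/
theorem exists_blowUp_dense {X : Scheme.{u}} [IsNoetherian X] (w : U ⟶ X) [IsOpenImmersion w] :
    ∃ (K : X.IdealSheafData) (X' : Scheme.{u}) (b : X' ⟶ X) (l : U ⟶ X'), BlowUp.IsBlowUp b K ∧
      Disjoint (K.support : Set X) (Set.range w) ∧ l ≫ b = w ∧ IsOpenImmersion l ∧ IsDominant l := by
  obtain ⟨K, X', b, hb, hK⟩ := exists_isBlowUp_support_compl w.opensRange
  have hdis : Disjoint (K.support : Set X) (Set.range w) := by rw [hK]; exact disjoint_compl_left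
  obtain ⟨l, hl⟩ := exists_lift_blowUp hb w hdis
  refine ⟨K, X', b, l, hb, hdis, hl, isOpenImmersion_lift_blowUp hb w hdis l hl, ⟨?_⟩⟩
  show Dense (Set.range l)
  rw [range_lift_blowUp hb w hdis l hl]
  refine dense_preimage_blowUp hb fun y hy => subset_closure ?_
  have : y ∉ (K.support : Set X) := hy
  rw [hK] at this
  exact not_not.1 this

lemma dense_range_lift_blowUp {T X X' : Scheme.{u}} {I : X.IdealSheafData} {b : X' ⟶ X}
    (hb : BlowUp.IsBlowUp b I) (j : T ⟶ X) [IsDominant j]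
    (h : Disjoint (I.support : Set X) (Set.range j)) (l : T ⟶ X') (hl : l ≫ b = j) :
    Dense (Set.range l) := by
  rw [range_lift_blowUp hb j h l hl]
  exact dense_preimage_blowUp hb fun y _ => (IsDominant.denseRange (f := j)) y

end Groth.Agent.LocImm58
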